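import Mathlib
import Cfsg.Prelude.Def_Classical
import Cfsg.Prelude.Def_ClassicalGeometry

/-!
The symplectic form, symplectic transvections and their images in `PSp`.
-/

set_option autoImplicit false

namespace CfsgLib.Sp

open Matrix

variable {m : ℕ} {F : Type*} [Field F]

local notation "V" => (Fin m ⊕ Fin m → F)

/-- The form. -/
abbrev sf (u v : Fin m ⊕ Fin m → F) : F := Cfsg.sympForm m F u v

theorem sf_eq (u v : V) :
    sf u v = ∑ i, (u (.inr i) * v (.inl i) - u (.inl i) * v (.inr i)) := by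
  simp [Cfsg.sympForm, Matrix.J, Matrix.fromBlocks_mulVec, dotProduct, Fintype.sum_sum_type,
    Matrix.neg_mulVec, Finset.sum_sub_distrib]
  ring

theorem sf_add_left (u u' v : V) : sf (u + u') v = sf u v + sf u' v := add_dotProduct _ _ _

theorem sf_smul_left (a : F) (u v : V) : sf (a • u) v = a * sf u v := by
  simp [Cfsg.sympForm]

theorem sf_add_right (u v v' : V) : sf u (v + v') = sf u v + sf u v' := by
  simp [Cfsg.sympForm, Matrix.mulVec_add, dotProduct_add]

theorem sf_smul_right (a : F) (u v : V) : sf u (a • v) = a * sf u v := by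
  simp [Cfsg.sympForm, Matrix.mulVec_smul]

theorem sf_self (u : V) : sf u u = 0 := by
  rw [sf_eq]
  exact Finset.sum_eq_zero fun i _ => by ring

theorem sf_swap (u v : V) : sf u v = -sf v u := by
  rw [sf_eq, sf_eq, ← Finset.sum_neg_distrib]
  exact Finset.sum_congr rfl fun i _ => by ring

theorem sf_single_inl (u : V) (i : Fin m) : sf u (Pi.single (.inl i) 1) = u (.inr i) := by
  classical
  simp [sf_eq, Pi.single_apply]

theorem sf_single_inr (u : V) (i : Fin m) : sf u (Pi.single (.inr i) 1) = -u (.inl i) := by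
  classical
  simp [sf_eq, Pi.single_apply]

theorem eq_zero_of_sf {u : V} (h : ∀ v, sf u v = 0) : u = 0 := by
  funext i
  rcases i with i | i
  · simpa [sf_single_inr] using h (Pi.single (.inr i) 1)
  · simpa [sf_single_inl] using h (Pi.single (.inl i) 1)

theorem eq_zero_of_sf' {u : V} (h : ∀ v, sf v u = 0) : u = 0 :=
  eq_zero_of_sf fun v => by rw [sf_swap, h v, neg_zero]

theorem exists_sf_eq_one {u : V} (hu : u ≠ 0) : ∃ v, sf v u = 1 := by
  by_contra hcon
  refine hu (eq_zero_of_sf' fun v => ?_)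
  by_contra hv
  exact hcon ⟨(sf v u)⁻¹ • v, by rw [sf_smul_left, inv_mul_cancel₀ hv]⟩

/-- The form against a fixed vector, as a linear map. -/
def sfLin (v : V) : V →ₗ[F] F where
  toFun u := sf u v
  map_add' a b := sf_add_left a b v
  map_smul' a b := sf_smul_left a b v

@[simp] theorem sfLin_apply (u v : V) : sfLin v u = sf u v := rfl

/-- There is a non-zero vector orthogonal to two given ones. -/
theorem exists_orth_two (hm : 2 ≤ m) (v w : V) : ∃ x : V, x ≠ 0 ∧ sf x v = 0 ∧ sf x w = 0 := by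
  have hlt : Module.finrank F (F × F) < Module.finrank F (Fin m ⊕ Fin m → F) := by
    simp; omega
  have h := LinearMap.ker_ne_bot_of_finrank_lt (f := (sfLin v).prod (sfLin w)) hlt
  obtain ⟨x, hx, hx0⟩ := Submodule.exists_mem_ne_zero_of_ne_bot h
  simp only [LinearMap.mem_ker, LinearMap.prod_apply, Prod.ext_iff, Function.prod_apply, sfLin_apply, Prod.fst_zero, Prod.snd_zero] at hx
  exact ⟨x, hx0, hx.1, hx.2⟩

/-- Vectors with the same orthogonal hyperplane are proportional. -/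
theorem eq_smul_of_orth {v w : V} (hv : v ≠ 0) (h : ∀ x, sf x v = 0 → sf x w = 0) :
    w = (sf (Classical.choose (exists_sf_eq_one hv)) w) • v := by
  set x₀ := Classical.choose (exists_sf_eq_one hv)
  have hx₀ : sf x₀ v = 1 := Classical.choose_spec (exists_sf_eq_one hv)
  rw [← sub_eq_zero]
  refine eq_zero_of_sf' fun x => ?_
  have h2 := h (x + (-sf x v) • x₀) (by rw [sf_add_left, sf_smul_left, hx₀]; ring)
  rw [sf_add_left, sf_smul_left] at h2
  rw [sub_eq_add_neg, ← neg_smul, sf_add_right, sf_smul_right]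
  linear_combination h2

/-- Membership in the span of two vectors, by orthogonality. -/
theorem mem_span_pair_iff {u v w : V} :
    u ∈ Submodule.span F {v, w} ↔ ∀ x, sf x v = 0 → sf x w = 0 → sf x u = 0 := by
  constructor
  · intro h x hv hw
    obtain ⟨a, b, rfl⟩ := Submodule.mem_span_pair.1 h
    rw [sf_add_right, sf_smul_right, sf_smul_right, hv, hw, mul_zero, mul_zero, add_zero]
  · intro h
    have hker : ∀ x, x ∈ (⨅ i : Fin 2, LinearMap.ker (![sfLin v, sfLin w] i)) → x ∈ LinearMap.ker (sfLin u) := by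
      intro x hx
      rw [Submodule.mem_iInf] at hx
      exact LinearMap.mem_ker.2 (h x (hx 0) (hx 1))
    have h2 := mem_span_of_iInf_ker_le_ker (L := ![sfLin v, sfLin w]) (K := sfLin u) hker
    obtain ⟨a, b, hab⟩ : ∃ a b, a • sfLin v + b • sfLin w = sfLin u := by
      rw [Matrix.range_cons, Matrix.range_cons, Matrix.range_empty, Set.union_empty,
        Set.singleton_union] at h2
      exact Submodule.mem_span_pair.1 h2
    refine Submodule.mem_span_pair.2 ⟨a, b, ?_⟩
    rw [← sub_eq_zero]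
    refine eq_zero_of_sf' fun x => ?_
    have h3 := LinearMap.congr_fun hab x
    simp only [LinearMap.add_apply, LinearMap.smul_apply, sfLin_apply, smul_eq_mul] at h3
    rw [sub_eq_add_neg, ← neg_one_smul F u, sf_add_right, sf_add_right, sf_smul_right,
      sf_smul_right, sf_smul_right]
    linear_combination h3

/-! ### The group -/

theorem sf_mulVec {A : Matrix (Fin m ⊕ Fin m) (Fin m ⊕ Fin m) F} (u v : V) :
    sf (A *ᵥ u) (A *ᵥ v) = u ⬝ᵥ ((Aᵀ * Matrix.J (Fin m) F * A) *ᵥ v) := by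
  show (A *ᵥ u) ⬝ᵥ (Matrix.J (Fin m) F *ᵥ (A *ᵥ v)) = _
  rw [← Matrix.mulVec_mulVec, ← Matrix.mulVec_mulVec, Matrix.dotProduct_mulVec _ Aᵀ,
    Matrix.vecMul_transpose]

theorem mem_sp_iff {A : Matrix (Fin m ⊕ Fin m) (Fin m ⊕ Fin m) F} :
    A ∈ Matrix.symplecticGroup (Fin m) F ↔ ∀ u v, sf (A *ᵥ u) (A *ᵥ v) = sf u v := by
  classical
  rw [SymplecticGroup.mem_iff']
  constructor
  · intro h u v
    rw [sf_mulVec, h]; rfl
  · intro h
    ext i j
    have h2 := h (Pi.single i 1) (Pi.single j 1)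
    rw [sf_mulVec] at h2
    simpa [Cfsg.sympForm] using h2

theorem sf_sp (A : Matrix.symplecticGroup (Fin m) F) (u v : V) :
    sf (A.1 *ᵥ u) (A.1 *ᵥ v) = sf u v := mem_sp_iff.1 A.2 u v

theorem sp_inv_mulVec (A : Matrix.symplecticGroup (Fin m) F) (u : V) :
    (A⁻¹).1 *ᵥ (A.1 *ᵥ u) = u := by
  rw [Matrix.mulVec_mulVec]
  have h : (A⁻¹ * A).1 = (1 : Matrix (Fin m ⊕ Fin m) (Fin m ⊕ Fin m) F) :=
    congrArg Subtype.val (inv_mul_cancel A)
  rw [show (A⁻¹).1 * A.1 = (A⁻¹ * A).1 from rfl, h, Matrix.one_mulVec]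

theorem sp_mulVec_inv (A : Matrix.symplecticGroup (Fin m) F) (u : V) :
    A.1 *ᵥ ((A⁻¹).1 *ᵥ u) = u := by
  simpa using sp_inv_mulVec A⁻¹ u

theorem sp_mul_val (A B : Matrix.symplecticGroup (Fin m) F) : (A * B).1 = A.1 * B.1 := rfl

theorem sp_mul_mulVec (A B : Matrix.symplecticGroup (Fin m) F) (u : V) :
    (A * B).1 *ᵥ u = A.1 *ᵥ (B.1 *ᵥ u) := by rw [sp_mul_val, Matrix.mulVec_mulVec]

theorem sp_one_mulVec (u : V) : (1 : Matrix.symplecticGroup (Fin m) F).1 *ᵥ u = u :=
  Matrix.one_mulVec u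

theorem sp_mulVec_ne_zero (A : Matrix.symplecticGroup (Fin m) F) {u : V} (hu : u ≠ 0) :
    A.1 *ᵥ u ≠ 0 := fun h => hu (by rw [← sp_inv_mulVec A u, h, Matrix.mulVec_zero])

theorem sp_ext_vec {A B : Matrix.symplecticGroup (Fin m) F} (h : ∀ u, A.1 *ᵥ u = B.1 *ᵥ u) :
    A = B := Subtype.ext (Matrix.ext_iff_mulVec.2 h)

theorem symTv_mulVec (v : V) (c : F) (x : V) :
    Cfsg.sympTransvection m v c *ᵥ x = x + (c * sf x v) • v := by
  unfold Cfsg.sympTransvection
  rw [Matrix.add_mulVec, Matrix.one_mulVec, Matrix.smul_mulVec, Matrix.vecMulVec_mulVec,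
    op_smul_eq_smul, smul_smul, dotProduct_comm]
  rfl

/-- A symplectic transvection. -/
def tv (v : V) (c : F) : Matrix.symplecticGroup (Fin m) F :=
  ⟨Cfsg.sympTransvection m v c, mem_sp_iff.2 fun x y => by
    rw [symTv_mulVec, symTv_mulVec]
    simp only [sf_add_left, sf_add_right, sf_smul_left, sf_smul_right, sf_self]
    rw [sf_swap v y]
    ring⟩

theorem tv_mulVec (v : V) (c : F) (x : V) : (tv v c).1 *ᵥ x = x + (c * sf x v) • v :=
  symTv_mulVec v c x

theorem tv_mul (v : V) (a b : F) : tv v a * tv v b = tv v (a + b) := by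
  refine sp_ext_vec fun x => ?_
  simp only [sp_mul_mulVec, tv_mulVec, sf_add_left, sf_smul_left, sf_self, mul_zero, add_zero,
    add_assoc, ← add_smul]
  congr 2
  ring

theorem tv_zero (v : V) : tv v (0 : F) = 1 := sp_ext_vec fun x => by
  simp [tv_mulVec]

theorem tv_smul (v : V) (a c : F) : tv (a • v) c = tv v (a * a * c) := sp_ext_vec fun x => by
  rw [tv_mulVec, tv_mulVec, sf_smul_right, smul_smul]
  congr 2
  ring

theorem tv_conj (A : Matrix.symplecticGroup (Fin m) F) (v : V) (c : F) :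
    A * tv v c * A⁻¹ = tv (A.1 *ᵥ v) c := by
  refine sp_ext_vec fun x => ?_
  rw [sp_mul_mulVec, sp_mul_mulVec, tv_mulVec, tv_mulVec, Matrix.mulVec_add, Matrix.mulVec_smul,
    sp_mulVec_inv]
  congr 3
  conv_rhs => rw [← sp_mulVec_inv A x, sf_sp]

theorem tv_commute {v w : V} (h : sf v w = 0) (a b : F) : Commute (tv v a) (tv w b) := by
  refine sp_ext_vec fun x => ?_
  simp only [sp_mul_mulVec, tv_mulVec, sf_add_left, sf_smul_left, h,
    show sf w v = 0 by rw [sf_swap, h, neg_zero], mul_zero, add_zero]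
  abel

/-- Transvections are transitive on non-zero vectors. -/
theorem exists_move {v w : V} (hv : v ≠ 0) (hw : w ≠ 0) :
    ∃ A : Matrix.symplecticGroup (Fin m) F, A.1 *ᵥ v = w := by
  have direct : ∀ {v w : V}, sf v w ≠ 0 → ∃ A : Matrix.symplecticGroup (Fin m) F, A.1 *ᵥ v = w := by
    intro v w h
    refine ⟨tv (w + (-1 : F) • v) (sf v w)⁻¹, ?_⟩
    rw [tv_mulVec, sf_add_right, sf_smul_right, sf_self, mul_zero, add_zero,
      inv_mul_cancel₀ h, one_smul, neg_one_smul]
    abel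
  obtain ⟨x, hxv, hxw⟩ : ∃ x, sf x v ≠ 0 ∧ sf x w ≠ 0 := by
    obtain ⟨a, ha⟩ := exists_sf_eq_one hv
    obtain ⟨b, hb⟩ := exists_sf_eq_one hw
    by_cases h1 : sf a w = 0
    · by_cases h2 : sf b v = 0
      · exact ⟨a + b, by rw [sf_add_left, ha, h2]; simp, by rw [sf_add_left, h1, hb]; simp⟩
      · exact ⟨b, h2, by rw [hb]; exact one_ne_zero⟩
    · exact ⟨a, by rw [ha]; exact one_ne_zero, h1⟩
  obtain ⟨A, hA⟩ := direct (v := v) (w := x) (by rw [sf_swap]; exact neg_ne_zero.2 hxv)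
  obtain ⟨B, hB⟩ := direct (v := x) (w := w) hxw
  exact ⟨B * A, by rw [sp_mul_mulVec, hA, hB]⟩

/-! ### The projective group -/

/-- The projection to `PSp`. -/
abbrev pr : Matrix.symplecticGroup (Fin m) F →* Cfsg.PSp m F := QuotientGroup.mk' _

theorem eq_smul_of_forall_eigen {f : V →ₗ[F] V} (hm : 1 ≤ m) (h : ∀ v, ∃ c : F, f v = c • v) :
    ∃ c : F, ∀ v, f v = c • v := by
  classical
  let e : Fin m ⊕ Fin m → V := fun i => Pi.single i 1
  choose c hc using h
  have key : ∀ i j, c (e i) = c (e j) := by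
    intro i j
    rcases eq_or_ne i j with rfl | hij
    · rfl
    have h1 : c (e i) • e i + c (e j) • e j = c (e i + e j) • (e i + e j) := by
      rw [← hc, ← hc, ← hc, map_add]
    have hi := congrFun h1 i
    have hj := congrFun h1 j
    simp [e, hij, hij.symm] at hi hj
    rw [hi, hj]
  obtain ⟨i₀⟩ : Nonempty (Fin m ⊕ Fin m) := ⟨.inl ⟨0, hm⟩⟩
  refine ⟨c (e i₀), fun v => ?_⟩
  conv_lhs => rw [pi_eq_sum_univ' v, map_sum]
  conv_rhs => rw [pi_eq_sum_univ' v, Finset.smul_sum]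
  refine Finset.sum_congr rfl fun i _ => ?_
  rw [map_smul, hc, key i i₀, smul_comm]

theorem center_scalar (hm : 1 ≤ m) {A : Matrix.symplecticGroup (Fin m) F}
    (hA : ∀ v, v ≠ 0 → Commute A (tv v 1)) : A.1 = 1 ∨ A.1 = -1 := by
  have h : ∀ v, ∃ c : F, Matrix.toLin' A.1 v = c • v := by
    intro v
    rcases eq_or_ne v 0 with rfl | hv
    · exact ⟨0, by simp⟩
    have h1 : tv (A.1 *ᵥ v) 1 = tv v 1 := by
      rw [← tv_conj, (hA v hv).eq, mul_inv_cancel_right]
    obtain ⟨x, hx⟩ := exists_sf_eq_one hv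
    have h2 := congrArg (fun T : Matrix.symplecticGroup (Fin m) F => T.1 *ᵥ x) h1
    simp only [tv_mulVec, one_mul, hx, one_smul, add_right_inj] at h2
    have hne : sf x (A.1 *ᵥ v) ≠ 0 := fun h0 => hv (by rw [← h2, h0, zero_smul])
    refine ⟨(sf x (A.1 *ᵥ v))⁻¹, ?_⟩
    rw [Matrix.toLin'_apply]
    exact (inv_smul_smul₀ hne _).symm.trans (congrArg ((sf x (A.1 *ᵥ v))⁻¹ • ·) h2)
  obtain ⟨c, hc⟩ := eq_smul_of_forall_eigen hm h
  have hA' : A.1 = c • 1 := Matrix.ext_iff_mulVec.2 fun v => by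
    rw [← Matrix.toLin'_apply, hc, Matrix.smul_mulVec, Matrix.one_mulVec]
  have h2 := sf_sp A (Pi.single (.inl ⟨0, hm⟩) 1) (Pi.single (.inr ⟨0, hm⟩) 1)
  rw [hA', Matrix.smul_mulVec, Matrix.smul_mulVec, Matrix.one_mulVec, Matrix.one_mulVec,
    sf_smul_left, sf_smul_right, sf_single_inr] at h2
  rcases mul_self_eq_one_iff.1 (show c * c = 1 by simpa using h2) with rfl | rfl
  · left; rw [hA', one_smul]
  · right; rw [hA', neg_one_smul]

theorem pr_eq_iff (hm : 1 ≤ m) {A B : Matrix.symplecticGroup (Fin m) F} :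
    pr A = pr B ↔ B.1 = A.1 ∨ B.1 = -A.1 := by
  rw [QuotientGroup.mk'_apply, QuotientGroup.mk'_apply, QuotientGroup.eq, Subgroup.mem_center_iff]
  constructor
  · intro h
    rcases center_scalar hm (fun v _ => (h (tv v 1)).symm) with h1 | h1
    · left
      rw [← mul_inv_cancel_left A B, sp_mul_val, h1, mul_one]
    · right
      rw [← mul_inv_cancel_left A B, sp_mul_val, h1, mul_neg, mul_one]
  · intro h g
    apply Subtype.ext
    rcases h with h | h
    · rw [show B = A from Subtype.ext h, inv_mul_cancel, mul_one, one_mul]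
    · have : (A⁻¹ * B).1 = -1 := by
        rw [sp_mul_val, h, mul_neg, ← sp_mul_val, inv_mul_cancel]; rfl
      rw [sp_mul_val g, sp_mul_val (A⁻¹ * B) g, this, mul_neg, neg_mul, mul_one, one_mul]

/-- Up to sign, a common fixed vector decides. -/
theorem pr_eq_fix (hm : 1 ≤ m) {A B : Matrix.symplecticGroup (Fin m) F} (h : pr A = pr B)
    {x : V} (hx : x ≠ 0) (hAx : A.1 *ᵥ x = x) (hBx : B.1 *ᵥ x = x) : A = B := by
  rcases (pr_eq_iff hm).1 h with h1 | h1
  · exact (Subtype.ext h1).symm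
  · rw [h1, Matrix.neg_mulVec, hAx] at hBx
    have h2 : ∀ y : F, -y = y := by
      obtain ⟨i, hi⟩ := Function.ne_iff.1 hx
      intro y
      have := congrFun hBx i
      simp only [Pi.neg_apply] at this
      have h3 : (-1 : F) = 1 := mul_right_cancel₀ hi (by simpa using this)
      rw [← neg_one_mul, h3, one_mul]
    refine Subtype.ext ?_
    rw [h1]
    ext i j
    exact (h2 _).symm

/-- A transvection in `PSp`. -/
abbrev pT (v : V) (c : F) : Cfsg.PSp m F := pr (tv v c)

theorem pT_mul (v : V) (a b : F) : pT v a * pT v b = pT v (a + b) := by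
  rw [← map_mul, tv_mul]

theorem pT_conj (A : Matrix.symplecticGroup (Fin m) F) (v : V) (c : F) :
    pr A * pT v c * (pr A)⁻¹ = pT (A.1 *ᵥ v) c := by
  rw [← map_mul, ← map_inv, ← map_mul, tv_conj]

theorem pT_par (hm : 2 ≤ m) {v w : V} {c d : F} (hv : v ≠ 0) (hc : c ≠ 0) (h : pT v c = pT w d) :
    ∃ a : F, v = a • w := by
  obtain ⟨x, hx0, hxv, hxw⟩ := exists_orth_two hm v w
  have he := pr_eq_fix (by omega) h hx0 (by rw [tv_mulVec, hxv]; simp)
    (by rw [tv_mulVec, hxw]; simp)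
  obtain ⟨y, hy⟩ := exists_sf_eq_one hv
  have h2 := congrArg (fun T : Matrix.symplecticGroup (Fin m) F => T.1 *ᵥ y) he
  simp only [tv_mulVec, hy, mul_one, add_right_inj] at h2
  exact ⟨c⁻¹ * (d * sf y w), by rw [← smul_smul, ← h2, inv_smul_smul₀ hc]⟩

theorem pT_ne_one (hm : 2 ≤ m) {v : V} {c : F} (hv : v ≠ 0) (hc : c ≠ 0) : pT v c ≠ 1 := by
  intro h
  obtain ⟨a, ha⟩ := pT_par hm hv hc (w := 0) (d := 0) (by rw [h, pT, tv_zero, map_one])
  exact hv (by rw [ha, smul_zero])

theorem pT_commute_iff (hm : 2 ≤ m) {v w : V} {c d : F} (hv : v ≠ 0) (hw : w ≠ 0) (hc : c ≠ 0)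
    (hd : d ≠ 0) : Commute (pT v c) (pT w d) ↔ sf v w = 0 := by
  constructor
  · intro h
    have h1 : pT ((tv v c).1 *ᵥ w) d = pT w d := by
      rw [← pT_conj, h.eq, mul_inv_cancel_right]
    obtain ⟨a, ha⟩ := pT_par hm (sp_mulVec_ne_zero _ hw) hd h1
    by_contra hne
    rw [tv_mulVec] at ha
    have h2 := congrArg (fun z => sf z w) ha
    simp only [sf_add_left, sf_smul_left, sf_self, mul_zero, zero_add, mul_eq_zero,
      or_self_left] at h2
    rw [sf_swap w v] at h2
    simp [hc, hne] at h2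
  · intro h
    exact (tv_commute h c d).map pr

end CfsgLib.Sp
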