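import Mathlib
import Cfsg.Agent.Lib.Sp.Basic

/-!
Elements of `PSp` centralising a group of unitriangular elements, and the behaviour of the
candidates in characteristic two.
-/

set_option autoImplicit false

namespace CfsgLib.Sp

open Matrix

attribute [-simp] Matrix.mulVec_single_one Matrix.mulVec_single

variable {m : ℕ} {F : Type*} [Field F]

local notation "V" => (Fin m ⊕ Fin m → F)

/-- A basis vector of the first block. -/
abbrev lv (i : Fin m) : Fin m ⊕ Fin m → F := Pi.single (Sum.inl i) 1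

/-- A basis vector of the second block. -/
abbrev rv (i : Fin m) : Fin m ⊕ Fin m → F := Pi.single (Sum.inr i) 1

theorem sf_lv (u : V) (i : Fin m) : sf u (lv i) = u (.inr i) := sf_single_inl u i

theorem sf_rv (u : V) (i : Fin m) : sf u (rv i) = -u (.inl i) := sf_single_inr u i

theorem lv_ne_zero (i : Fin m) : (lv i : V) ≠ 0 := fun h => by
  simpa using congrFun h (.inl i)

theorem rv_ne_zero (i : Fin m) : (rv i : V) ≠ 0 := fun h => by
  simpa using congrFun h (.inr i)

/-- The map `x ↦ x + c (f(x,u) w + f(x,w) u)` for orthogonal `u`, `w`. -/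
def kv (u w : Fin m ⊕ Fin m → F) (c : F) : Matrix.symplecticGroup (Fin m) F :=
  tv (u + w) c * tv u (-c) * tv w (-c)

theorem kv_mulVec (u w : V) (h : sf u w = 0) (c : F) (x : V) :
    (kv u w c).1 *ᵥ x = x + (c * sf x u) • w + (c * sf x w) • u := by
  unfold kv
  have h' : sf w u = 0 := by rw [sf_swap, h, neg_zero]
  simp only [sp_mul_mulVec, tv_mulVec, sf_add_left, sf_add_right, sf_smul_left, sf_self, h, h',
    mul_zero, add_zero]
  module

theorem kv_conj (A : Matrix.symplecticGroup (Fin m) F) (u w : V) (h : sf u w = 0) (c : F) :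
    A * kv u w c * A⁻¹ = kv (A.1 *ᵥ u) (A.1 *ᵥ w) c := by
  refine sp_ext_vec fun x => ?_
  rw [sp_mul_mulVec, sp_mul_mulVec, kv_mulVec u w h, kv_mulVec _ _ (by rw [sf_sp, h]), Matrix.mulVec_add, Matrix.mulVec_add,
    Matrix.mulVec_smul, Matrix.mulVec_smul, sp_mulVec_inv]
  congr 3 <;> conv_rhs => rw [← sp_mulVec_inv A x, sf_sp]

/-- The position of an index in the unitriangular order. -/
def rk (a : Fin m ⊕ Fin m) : ℕ := Sum.elim (fun i => i.val) (fun i => 2 * m - 1 - i.val) a

theorem rk_lt (a : Fin m ⊕ Fin m) : rk a < 2 * m := by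
  rcases a with i | i <;> simp [rk] <;> omega

/-- Unitriangularity. -/
def IsUni (X : Matrix (Fin m ⊕ Fin m) (Fin m ⊕ Fin m) F) : Prop :=
  ∀ a b, rk b ≤ rk a → X a b = if a = b then 1 else 0

theorem isUni_one : IsUni (1 : Matrix (Fin m ⊕ Fin m) (Fin m ⊕ Fin m) F) := fun a b _ =>
  Matrix.one_apply

theorem IsUni.mul {X Y : Matrix (Fin m ⊕ Fin m) (Fin m ⊕ Fin m) F} (hX : IsUni X) (hY : IsUni Y) :
    IsUni (X * Y) := by
  classical
  intro a b hab
  rw [Matrix.mul_apply]
  rw [Finset.sum_eq_single a]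
  · rw [hX a a le_rfl, if_pos rfl, one_mul, hY a b hab]
  · intro c _ hca
    by_cases h1 : rk c ≤ rk a
    · rw [hX a c h1, if_neg (Ne.symm hca), zero_mul]
    · rw [hY c b (by omega), if_neg (fun h => h1 (by rw [h]; exact hab)), mul_zero]
  · simp

theorem pow_sub_one_vanish {X : Matrix (Fin m ⊕ Fin m) (Fin m ⊕ Fin m) F} (hX : IsUni X) :
    ∀ k a b, rk b < rk a + k → ((X - 1) ^ k) a b = 0 := by
  intro k
  induction k with
  | zero =>
    intro a b h
    rw [pow_zero, Matrix.one_apply, if_neg]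
    rintro rfl; omega
  | succ k ih =>
    intro a b h
    rw [pow_succ, Matrix.mul_apply]
    refine Finset.sum_eq_zero fun c _ => ?_
    by_cases h1 : rk c < rk a + k
    · rw [ih a c h1, zero_mul]
    · rw [Matrix.sub_apply, hX c b (by omega), Matrix.one_apply, sub_self, mul_zero]

variable [Finite F]

/-- The unitriangular symplectic group. -/
def uniGroup : Subgroup (Matrix.symplecticGroup (Fin m) F) where
  carrier := {X | IsUni X.1}
  mul_mem' ha hb := ha.mul hb
  one_mem' := isUni_one
  inv_mem' {X} hX := by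
    haveI : Finite (Matrix.symplecticGroup (Fin m) F) :=
      Finite.of_injective (fun X => (X.1 : Matrix _ _ F)) Subtype.val_injective
    have h1 : X⁻¹ = X ^ (orderOf X - 1) := by
      refine inv_eq_of_mul_eq_one_left ?_
      rw [← pow_succ, Nat.sub_add_cancel (orderOf_pos X), pow_orderOf_eq_one]
    rw [h1]
    generalize orderOf X - 1 = k
    induction k with
    | zero => exact isUni_one
    | succ k ih => rw [pow_succ]; exact IsUni.mul ih hX

theorem mem_uniGroup {X : Matrix.symplecticGroup (Fin m) F} : X ∈ uniGroup ↔ IsUni X.1 := Iff.rfl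

theorem isPGroup_uniGroup {p : ℕ} [Fact p.Prime] [CharP F p] :
    IsPGroup p (uniGroup (m := m) (F := F)) := by
  classical
  intro X
  obtain ⟨k, hk⟩ : ∃ k, 2 * m ≤ p ^ k :=
    ⟨2 * m, (Nat.lt_pow_self (Fact.out (p := p.Prime)).one_lt).le⟩
  refine ⟨k, Subtype.ext (Subtype.ext ?_)⟩
  rw [SubmonoidClass.coe_pow, SubmonoidClass.coe_pow]
  rcases Nat.eq_zero_or_pos m with rfl | hm
  · ext i; exact i.elim Fin.elim0 Fin.elim0
  have hz : ((X.1 : Matrix.symplecticGroup (Fin m) F).1 - 1) ^ (p ^ k) = 0 := by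
    ext a b
    exact pow_sub_one_vanish X.2 _ a b (by have := rk_lt b; omega)
  haveI : Nonempty (Fin m ⊕ Fin m) := ⟨.inl ⟨0, hm⟩⟩
  rw [sub_pow_char_pow_of_commute (p := p) k (Commute.one_right _), one_pow, sub_eq_zero] at hz
  simpa using hz

omit [Finite F] in
theorem isUni_of_mulVec {X : Matrix (Fin m ⊕ Fin m) (Fin m ⊕ Fin m) F}
    (h : ∀ a b, rk b ≤ rk a → (X *ᵥ Pi.single b 1) a = (Pi.single b 1 : V) a) : IsUni X := by
  intro a b hab
  have := h a b hab
  rw [Matrix.mulVec_single_one] at this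
  simpa [Pi.single_apply] using this

theorem tv_mem_uni_inl (v : V) (hv : ∀ i, v (.inr i) = 0) (c : F) : tv v c ∈ uniGroup := by
  refine mem_uniGroup.2 (isUni_of_mulVec fun a b hab => ?_)
  rw [tv_mulVec, Pi.add_apply, Pi.smul_apply, add_eq_left, smul_eq_mul]
  rcases a with i | i
  · rcases b with j | j
    · have : sf (Pi.single (Sum.inl j) 1) v = 0 := by
        rw [sf_swap]; show -sf v (lv j) = 0; rw [sf_lv, hv, neg_zero]
      rw [this, mul_zero, zero_mul]
    · exfalso; simp [rk] at hab; omega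
  · rw [hv, mul_zero]

theorem kv_mem_uni {i j : Fin m} (hij : i < j) (c : F) :
    kv (F := F) (lv i) (rv j) c ∈ uniGroup := by
  refine mem_uniGroup.2 (isUni_of_mulVec fun a b hab => ?_)
  rw [kv_mulVec _ _ (by rw [sf_rv]; simp [hij.ne']), Pi.add_apply, Pi.add_apply, Pi.smul_apply, Pi.smul_apply, sf_lv, sf_rv]
  simp only [smul_eq_mul, Pi.single_apply]
  rcases a with k | k <;> rcases b with l | l <;>
    simp only [Sum.inr.injEq, Sum.inl.injEq, reduceCtorEq, if_false, mul_zero, zero_mul, add_zero,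
      neg_zero, rk, Sum.elim_inl, Sum.elim_inr] at hab ⊢
  · rw [add_eq_left]
    split_ifs with h1 h2 <;> try simp
    subst h1 h2; exact absurd hij (by simpa using hab)
  · rw [add_eq_left]
    split_ifs with h1 h2 <;> try simp
    subst h1 h2; omega

omit [Finite F] in
/-- The centraliser of the unitriangular group. -/
theorem eq_of_commute_uni (hm : 2 ≤ m) {z o : Fin m} (hz : z.val = 0) (ho : o.val = 1)
    {x : Cfsg.PSp m F}
    (h1 : ∀ v : V, (∀ i, v (.inr i) = 0) → Commute x (pr (tv v 1)))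
    (h2 : ∀ (i j : Fin m) (hij : i < j),
      Commute x (pr (kv (lv i) (rv j) 1))) :
    ∃ (a b : F) (hu : sf (lv z) (lv o : V) = 0), b + b = 0 ∧
      x = pr (tv (lv z) a * kv (lv z) (lv o) b) := by
  classical
  obtain ⟨X₀, rfl⟩ := QuotientGroup.mk'_surjective _ x
  have hzo : z ≠ o := fun h => by rw [h] at hz; omega
  have heig : ∀ v : V, v ≠ 0 → (∀ i, v (.inr i) = 0) → ∃ c : F, X₀.1 *ᵥ v = c • v := by
    intro v hv hvi
    have h3 : pT (X₀.1 *ᵥ v) 1 = pT v (1 : F) := by
      rw [← pT_conj, (h1 v hvi).eq, mul_inv_cancel_right]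
    exact pT_par hm (sp_mulVec_ne_zero _ hv) one_ne_zero h3
  have hl : ∀ (i j : Fin m), (lv i : V) (.inr j) = 0 := fun i j => by simp
  choose c hc using fun i => heig (lv i) (lv_ne_zero i) (hl i)
  have hconst : ∀ i, c i = c z := by
    intro i
    rcases eq_or_ne i z with rfl | hiz
    · rfl
    have hne : (lv i + lv z : V) ≠ 0 := fun h => by simpa [hiz] using congrFun h (.inl i)
    obtain ⟨d, hd⟩ := heig _ hne (fun k => by simp)
    rw [Matrix.mulVec_add, hc, hc] at hd
    have e1 := congrFun hd (.inl i)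
    have e2 := congrFun hd (.inl z)
    simp [hiz, hiz.symm] at e1 e2
    rw [e1, e2]
  -- a transvection fixing the first block
  have hsign : c z * c z = 1 := by
    have h3 : pT ((c z) • (lv z : V)) 1 = pT (lv z) (1 : F) := by
      rw [← hc z, ← pT_conj, (h1 _ (hl z)).eq, mul_inv_cancel_right]
    rw [pT, pT, tv_smul, mul_one] at h3
    have h4 := pr_eq_fix (by omega) h3 (lv_ne_zero z) (by rw [tv_mulVec, sf_self]; simp)
      (by rw [tv_mulVec, sf_self]; simp)
    have h5 := congrArg (fun T : Matrix.symplecticGroup (Fin m) F => T.1 *ᵥ rv z) h4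
    simp only [tv_mulVec, sf_lv] at h5
    simpa using congrFun h5 (.inl z)
  obtain ⟨X, hXx, hXl⟩ : ∃ X, pr X = pr X₀ ∧ ∀ i, X.1 *ᵥ lv i = (lv i : V) := by
    rcases mul_self_eq_one_iff.1 hsign with h | h
    · exact ⟨X₀, rfl, fun i => by rw [hc, hconst, h, one_smul]⟩
    · refine ⟨⟨-X₀.1, SymplecticGroup.neg_mem X₀.2⟩,
        (pr_eq_iff (by omega)).2 (Or.inr (by simp)), fun i => ?_⟩
      rw [Matrix.neg_mulVec, hc, hconst, h, neg_one_smul, neg_neg]
  have hXr : ∀ (y : V) i, (X.1 *ᵥ y) (.inr i) = y (.inr i) := fun y i => by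
    rw [← sf_lv (X.1 *ᵥ y) i, ← hXl i, sf_sp, sf_lv]
  set S : Fin m → Fin m → F := fun i j => (X.1 *ᵥ rv j) (.inl i) with hS
  have hXrv : ∀ j i, (X.1 *ᵥ rv j) (.inl i) = S i j := fun _ _ => rfl
  have hsym : ∀ i j, S i j = S j i := by
    intro i j
    have h3 := sf_sp X (rv i) (rv j)
    simp only [sf_eq, hXr, hXrv] at h3
    simp [Pi.single_apply] at h3
    linear_combination h3
  have hrel : ∀ (i j : Fin m), i < j → ∀ a, (a ≠ i → S j a = 0) ∧ S i j + S j i = 0 := by
    intro i j hij
    have hu : sf (lv i) (rv j : V) = 0 := by rw [sf_rv]; simp [hij.ne']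
    have hjz : j ≠ z := fun h => by rw [h, Fin.lt_def, hz] at hij; omega
    have hK := h2 i j hij
    rw [← hXx] at hK
    have hcomm : X * kv (lv i) (rv j) 1 = kv (lv i) (rv j) 1 * X := by
      have h4 : pr (X * kv (lv i) (rv j) 1) = pr (kv (lv i) (rv j) 1 * X) := by
        rw [map_mul, map_mul]; exact hK
      refine pr_eq_fix (by omega) h4 (lv_ne_zero z) ?_ ?_ <;>
        simp [← Matrix.mulVec_mulVec, Matrix.mulVec_add, Matrix.mulVec_smul, kv_mulVec _ _ hu, hXl, sf_lv, sf_rv, hjz.symm]
    intro a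
    have e : ∀ a k, (if a = i then S k j else 0) + (if k = i then S j a else 0) = 0 := by
      intro a k
      have h5 := congrFun (congrArg (fun T : Matrix.symplecticGroup (Fin m) F => T.1 *ᵥ rv a) hcomm)
        (.inl k)
      simp only [sp_mul_mulVec, kv_mulVec _ _ hu, Matrix.mulVec_add, Matrix.mulVec_smul, hXl, sf_lv, sf_rv,
        Pi.add_apply, Pi.smul_apply, hXr, hXrv, one_mul, smul_eq_mul, Pi.single_apply] at h5
      simp only [Sum.inr.injEq, Sum.inl.injEq, reduceCtorEq, if_false, neg_zero, zero_mul,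
        add_zero, mul_zero, ite_mul, one_mul, eq_comm (a := i) (b := a)] at h5
      split_ifs at h5 ⊢ <;> linear_combination h5
    exact ⟨fun ha => by simpa [ha] using e a i, by simpa using e i i⟩
  have hzlt : ∀ j, j ≠ z → z < j := fun j hj => by
    rw [Fin.lt_def, hz]
    exact Nat.pos_of_ne_zero fun h => hj (Fin.ext (by rw [h, hz]))
  have holt : ∀ j, j ≠ z → j ≠ o → o < j := fun j hj hjo => by
    rw [Fin.lt_def, ho]
    have h3 : j.val ≠ 0 := fun h => hj (Fin.ext (by rw [h, hz]))
    have h4 : j.val ≠ 1 := fun h => hjo (Fin.ext (by rw [h, ho]))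
    omega
  refine ⟨S z z, S z o, by rw [sf_lv]; simp, ?_, ?_⟩
  · have := (hrel z o (hzlt o hzo.symm) z).2
    rwa [hsym o z] at this
  rw [← hXx]
  congr 1
  -- compare on a basis
  apply Subtype.ext
  refine Matrix.ext_of_mulVec_single fun b => funext fun a => ?_
  rw [sp_mul_mulVec, kv_mulVec _ _ (by rw [sf_lv]; simp)]
  rcases b with b | b
  · rw [show (Pi.single (Sum.inl b) 1 : V) = lv b from rfl, hXl, sf_lv, sf_lv]
    simp [tv_mulVec, sf_lv]
  rw [show (Pi.single (Sum.inr b) 1 : V) = rv b from rfl, tv_mulVec]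
  rcases a with a | a
  · rw [hXrv]
    simp only [sf_lv, Pi.add_apply, Pi.smul_apply, smul_eq_mul]
    simp only [Pi.single_apply, Sum.inr.injEq, Sum.inl.injEq, reduceCtorEq, if_false, mul_zero,
      add_zero, zero_add, mul_ite, mul_one, ite_mul, zero_mul]
    rcases eq_or_ne a z with rfl | haz
    · rcases eq_or_ne b a with rfl | hbz
      · simp [hzo, hzo.symm]
      rcases eq_or_ne b o with rfl | hbo
      · simp [hbz, hbz.symm]
      · rw [hsym, (hrel o b (holt b hbz hbo) a).1 hzo]
        simp [hzo, hzo.symm, hbz, hbz.symm, hbo, hbo.symm]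
    rcases eq_or_ne b z with rfl | hbz
    · rcases eq_or_ne a o with rfl | hao
      · simp [haz, haz.symm, hsym a b]
      · rw [(hrel o a (holt a haz hao) b).1 hzo]
        simp [hzo, hzo.symm, haz, haz.symm, hao, hao.symm]
    · rw [(hrel z a (hzlt a haz) b).1 hbz]
      simp [haz, haz.symm, hbz, hbz.symm]
  · rw [hXr]
    simp

/-! ### Characteristic two -/

/-- A conjugate of `t` either commutes with it or gives a product of odd order. -/
def OddTransp {G : Type*} [Group G] (t : G) : Prop :=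
  ∀ h : G, Commute t (h * t * h⁻¹) ∨ Odd (orderOf (t * (h * t * h⁻¹)))

theorem OddTransp.map {G H : Type*} [Group G] [Group H] {t : G} (ht : OddTransp t) (β : G ≃* H) :
    OddTransp (β t) := by
  intro h
  obtain ⟨k, rfl⟩ := β.surjective h
  rw [← map_inv, ← map_mul, ← map_mul, ← map_mul, β.orderOf_eq]
  exact (ht k).imp (fun hc => hc.map β) id

section two

variable [CharP F 2]

omit [Finite F] in
theorem pr_injective_two (hm : 1 ≤ m) :
    Function.Injective (pr : Matrix.symplecticGroup (Fin m) F → Cfsg.PSp m F) := fun A B h => by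
  rcases (pr_eq_iff hm).1 h with h1 | h1
  · exact (Subtype.ext h1).symm
  · refine (Subtype.ext (h1.trans ?_)).symm
    ext i j
    exact CharTwo.neg_eq _

omit [Finite F] in
theorem sf_comm_two (u v : V) : sf u v = sf v u := by rw [sf_swap, CharTwo.neg_eq]

omit [Finite F] in
/-- Transvections have the odd transposition property. -/
theorem oddTransp_pT [Finite F] (hm : 1 ≤ m) (v : V) (c : F) : OddTransp (pT v c) := by
  haveI : Finite (Matrix.symplecticGroup (Fin m) F) :=
    Finite.of_injective (fun X => (X.1 : Matrix _ _ F)) Subtype.val_injective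
  intro h
  obtain ⟨H, rfl⟩ := QuotientGroup.mk'_surjective _ h
  rw [pT_conj]
  set w := H.1 *ᵥ v with hw
  by_cases he : sf v w = 0
  · exact Or.inl ((tv_commute he c c).map pr)
  by_cases hc : c = 0
  · subst hc; left; rw [pT, tv_zero, map_one]; exact Commute.one_left _
  right
  rw [← map_mul, orderOf_injective pr (pr_injective_two hm)]
  set g := tv v c * tv w c with hg
  set τ := c * c * (sf v w) * (sf v w) with hτ
  have hτ0 : τ ≠ 0 := by simp [hτ, hc, he]
  have hwv : sf w v = sf v w := sf_comm_two w v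
  have gw : g.1 *ᵥ w = w + (c * sf v w) • v := by
    rw [hg, sp_mul_mulVec, tv_mulVec w c, sf_self, mul_zero, zero_smul, add_zero, tv_mulVec, hwv]
  have gv : g.1 *ᵥ v = v + τ • v + (c * sf v w) • w := by
    rw [hg, sp_mul_mulVec, tv_mulVec w c, Matrix.mulVec_add, Matrix.mulVec_smul, tv_mulVec,
      tv_mulVec, sf_self, mul_zero, zero_smul, add_zero, hwv, smul_add, smul_smul, hτ]
    module
  let InW : V → Prop := fun x => ∃ a b : F, x = a • v + b • w
  have hquad : ∀ x, InW x → g.1 *ᵥ (g.1 *ᵥ x) = τ • (g.1 *ᵥ x) + x := by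
    rintro x ⟨a, b, rfl⟩
    simp only [Matrix.mulVec_add, Matrix.mulVec_smul, gv, gw]
    have h2 : (2 : F) = 0 := CharTwo.two_eq_zero
    match_scalars <;> grind
  have hlin : ∀ k : ℕ, ∃ a b : F, ∀ x, InW x → (g ^ k).1 *ᵥ x = a • x + b • (g.1 *ᵥ x) := by
    intro k
    induction k with
    | zero => exact ⟨1, 0, fun x _ => by rw [pow_zero, sp_one_mulVec]; simp⟩
    | succ k ih =>
      obtain ⟨a, b, hab⟩ := ih
      refine ⟨b, a + b * τ, fun x hx => ?_⟩
      rw [pow_succ', sp_mul_mulVec, hab x hx, Matrix.mulVec_add, Matrix.mulVec_smul,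
        Matrix.mulVec_smul, hquad x hx]
      module
  by_contra hodd
  rw [Nat.not_odd_iff_even] at hodd
  obtain ⟨k, hk⟩ := hodd
  have hpos := orderOf_pos g
  obtain ⟨a, b, hab⟩ := hlin k
  have hkk : g ^ k * g ^ k = 1 := by rw [← pow_add, ← hk, pow_orderOf_eq_one]
  have hv' : InW v := ⟨1, 0, by simp⟩
  have hgv : InW (g.1 *ᵥ v) := ⟨1 + τ, c * sf v w, by rw [gv]; module⟩
  have e1 : v = (a * a + b * b) • v + (b * b * τ) • (g.1 *ᵥ v) := by
    conv_lhs => rw [← sp_one_mulVec v, ← hkk, sp_mul_mulVec, hab v hv', Matrix.mulVec_add,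
      Matrix.mulVec_smul, Matrix.mulVec_smul, hab v hv', hab _ hgv, hquad v hv']
    have h2 : (2 : F) = 0 := CharTwo.two_eq_zero
    match_scalars <;> grind
  have e2 := congrArg (fun z => sf z v) e1
  simp only [sf_add_left, sf_smul_left, sf_self, mul_zero, zero_add, gv, hwv, add_zero] at e2
  have hb : b = 0 := by
    have : b * b * (τ * (c * (sf v w * sf v w))) = 0 := by rw [← e2.symm]; ring
    simpa [hτ0, hc, he] using this
  subst hb
  have ha : a = 1 := by
    have e3 : (a * a - 1) • v = 0 := by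
      rw [sub_smul, one_smul, sub_eq_zero]
      simpa using e1.symm
    have hv0 : v ≠ 0 := fun h0 => he (by rw [h0]; simp [Cfsg.sympForm])
    rcases mul_self_eq_one_iff.1 (sub_eq_zero.1 ((smul_eq_zero.1 e3).resolve_right hv0)) with h | h
    · exact h
    · rw [h, CharTwo.neg_eq]
  subst ha
  have hone : g ^ k = 1 := by
    refine sp_ext_vec fun x => ?_
    rw [sp_one_mulVec]
    set a' := sf x w / sf v w with ha'
    set b' := sf x v / sf v w with hb'
    set x' := x + (a' • v + b' • w) with hx'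
    have h1 : sf x' v = 0 ∧ sf x' w = 0 := by
      constructor
      · rw [hx', sf_add_left, sf_add_left, sf_smul_left, sf_smul_left, sf_self, hwv, hb',
          mul_zero, zero_add, div_mul_cancel₀ _ he, CharTwo.add_self_eq_zero]
      · rw [hx', sf_add_left, sf_add_left, sf_smul_left, sf_smul_left, sf_self, ha',
          mul_zero, add_zero, div_mul_cancel₀ _ he, CharTwo.add_self_eq_zero]
    have hfix : ∀ j : ℕ, (g ^ j).1 *ᵥ x' = x' := by
      intro j
      induction j with
      | zero => rw [pow_zero, sp_one_mulVec]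
      | succ j ih =>
        rw [pow_succ, sp_mul_mulVec, hg, sp_mul_mulVec, tv_mulVec w, h1.2, mul_zero, zero_smul,
          add_zero, tv_mulVec, h1.1, mul_zero, zero_smul, add_zero, ← hg, ih]
    have hx : x = x' + (a' • v + b' • w) := by
      rw [hx']
      have h2 : (2 : F) = 0 := CharTwo.two_eq_zero
      match_scalars <;> grind
    rw [hx, Matrix.mulVec_add, hfix, hab _ ⟨a', b', rfl⟩, one_smul, zero_smul, add_zero]
  have := orderOf_dvd_of_pow_eq_one hone
  have hk0 : 0 < k := by omega
  have := Nat.le_of_dvd hk0 this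
  omega

omit [Finite F] in
theorem sf_eq_two (u v : V) : sf u v = ∑ a, u a * v a.swap := by
  rw [sf_eq, Fintype.sum_sum_type, ← Finset.sum_add_distrib]
  refine Finset.sum_congr rfl fun i _ => ?_
  rw [CharTwo.sub_eq_add, Sum.swap_inl, Sum.swap_inr]
  ring

/-- A permutation of coordinates commuting with the pairing. -/
def permSp (π : Equiv.Perm (Fin m ⊕ Fin m)) (hπ : ∀ a, π a.swap = (π a).swap) :
    Matrix.symplecticGroup (Fin m) F :=
  ⟨Matrix.of fun a b => if π b = a then 1 else 0, mem_sp_iff.2 fun u v => by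
    classical
    have h : ∀ x : V, (Matrix.of fun a b => if π b = a then (1 : F) else 0) *ᵥ x =
        fun a => x (π.symm a) := by
      intro x; funext a
      simp only [Matrix.mulVec, dotProduct, Matrix.of_apply, ite_mul, one_mul, zero_mul]
      simp [← Equiv.eq_symm_apply]
    rw [h, h, sf_eq_two, sf_eq_two]
    refine Fintype.sum_equiv π.symm _ _ fun a => ?_
    congr 2
    rw [Equiv.symm_apply_eq, hπ, Equiv.apply_symm_apply]⟩

omit [Finite F] in
theorem permSp_single (π : Equiv.Perm (Fin m ⊕ Fin m)) (hπ : ∀ a, π a.swap = (π a).swap)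
    (a : Fin m ⊕ Fin m) :
    (permSp (F := F) π hπ).1 *ᵥ Pi.single a 1 = Pi.single (π a) 1 := by
  classical
  rw [Matrix.mulVec_single_one]
  funext b
  simp [permSp, Pi.single_apply, eq_comm]

omit [Finite F] in
/-- A candidate with a non-zero off-diagonal part is no odd transposition. -/
theorem not_oddTransp [Finite F] (hm : 3 ≤ m) {z o w : Fin m} (hzo : z ≠ o) (hzw : z ≠ w)
    (how : o ≠ w) (a b : F) (hb : b ≠ 0) (hu : sf (lv z) (lv o : V) = 0) :
    ¬ OddTransp (pr (tv (lv z) a * kv (lv z) (lv o) b)) := by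
  haveI : Finite (Matrix.symplecticGroup (Fin m) F) :=
    Finite.of_injective (fun X => (X.1 : Matrix _ _ F)) Subtype.val_injective
  intro hP
  suffices h : ∃ y : Matrix.symplecticGroup (Fin m) F,
      let t := tv (lv z) a * kv (lv z) (lv o) b
      let s := y * t * y⁻¹
      (∃ r : V, (t * s).1 *ᵥ r ≠ (s * t).1 *ᵥ r) ∧
      ∃ r r₁ : V, ∀ k : ℕ, Odd k → sf (((t * s) ^ k).1 *ᵥ r - r) r₁ ≠ 0 by
    obtain ⟨y, ⟨r0, hr0⟩, r, r₁, hk⟩ := h
    rcases hP (pr y) with hc | hodd
    · apply hr0
      have : tv (lv z) a * kv (lv z) (lv o) b * (y * (tv (lv z) a * kv (lv z) (lv o) b) * y⁻¹) =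
          y * (tv (lv z) a * kv (lv z) (lv o) b) * y⁻¹ * (tv (lv z) a * kv (lv z) (lv o) b) := by
        apply pr_injective_two (by omega)
        simp only [map_mul, map_inv]
        simpa only [map_mul] using hc.eq
      exact congrArg (fun T : Matrix.symplecticGroup (Fin m) F => T.1 *ᵥ r0) this
    · rw [← map_inv, ← map_mul, ← map_mul, ← map_mul, orderOf_injective pr
        (pr_injective_two (by omega))] at hodd
      refine hk _ hodd ?_
      rw [pow_orderOf_eq_one, sp_one_mulVec, sub_self]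
      simp [Cfsg.sympForm]
  rcases eq_or_ne a 0 with rfl | ha
  · -- a short root element
    let ρ : Equiv.Perm (Fin m) := Equiv.swap z o * Equiv.swap o w
    let π : Equiv.Perm (Fin m ⊕ Fin m) :=
      Equiv.swap (Sum.inl o) (Sum.inr o) * Equiv.sumCongr ρ ρ
    have hπ : ∀ a, π a.swap = (π a).swap := by
      rintro (i | i) <;>
        simp [π, Equiv.swap_apply_def] <;> split_ifs <;> simp_all
    have hπz : π (.inl z) = .inr o := by
      simp [π, ρ, Equiv.swap_apply_def, hzo, hzw]
    have hπo : π (.inl o) = .inl w := by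
      simp [π, ρ, Equiv.swap_apply_def, hzw.symm, how.symm]
    refine ⟨permSp π hπ, ?_⟩
    simp only [tv_zero, one_mul]
    have huy : sf (rv o) (lv w : V) = 0 := by rw [sf_lv]; simp [how.symm]
    rw [kv_conj _ _ _ hu]
    set s := kv ((permSp π hπ).1 *ᵥ (lv z : V)) ((permSp π hπ).1 *ᵥ (lv o : V)) b with hs
    clear_value s
    have hs' : ∀ x, s.1 *ᵥ x = x + (b * sf x (rv o)) • lv w + (b * sf x (lv w)) • rv o := by
      intro x
      rw [hs, kv_mulVec _ _ (by rw [sf_sp, hu]), show (lv z : V) = Pi.single (.inl z) 1 from rfl,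
        show (lv o : V) = Pi.single (.inl o) 1 from rfl, permSp_single, permSp_single, hπz, hπo]
    set t := kv (lv z) (lv o) b with ht
    have hsr : s.1 *ᵥ rv z = (rv z : V) := by
      rw [hs', sf_rv, sf_lv]; simp [hzw.symm]
    have hsl : s.1 *ᵥ lv o = (lv o : V) + b • lv w := by
      rw [hs', sf_rv, sf_lv]; simp [CharTwo.neg_eq]
    have hslw : s.1 *ᵥ lv w = (lv w : V) := by
      rw [hs', sf_rv, sf_lv]; simp [how]
    have htr : t.1 *ᵥ rv z = (rv z : V) + b • lv o := by
      rw [ht, kv_mulVec _ _ hu, sf_lv, sf_lv]; simp [hzo.symm]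
    have htl : ∀ i, t.1 *ᵥ lv i = (lv i : V) := fun i => by
      rw [ht, kv_mulVec _ _ hu, sf_lv, sf_lv]; simp
    refine ⟨⟨rv z, ?_⟩, rv z, rv o, ?_⟩
    · intro h
      have h2 := congrFun h (.inl w)
      simp only [sp_mul_mulVec, hsr, htr, Matrix.mulVec_add, Matrix.mulVec_smul, hsl, smul_add,
        smul_smul] at h2
      simp [hzw, how.symm] at h2
      exact hb h2
    · intro k hk
      have hkey : ∀ j : ℕ, ∃ d : F, ((t * s) ^ j).1 *ᵥ rv z = (rv z : V) + ((j : F) * b) • lv o + d • lv w := by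
        intro j
        induction j with
        | zero => exact ⟨0, by rw [pow_zero, sp_one_mulVec]; simp⟩
        | succ j ih =>
          obtain ⟨d, hd⟩ := ih
          refine ⟨d + (j : F) * b * b, ?_⟩
          rw [pow_succ', sp_mul_mulVec, hd, sp_mul_mulVec]
          simp only [Matrix.mulVec_add, Matrix.mulVec_smul, hsr, hsl, hslw, htr, htl]
          push_cast
          module
      obtain ⟨d, hd⟩ := hkey k
      rw [hd]
      have hk1 : (k : F) = 1 := by
        obtain ⟨j, rfl⟩ := hk
        push_cast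
        rw [CharTwo.two_eq_zero, zero_mul, zero_add]
      simp [sf_rv, hk1, hb, how.symm]
  · -- two orthogonal transvections
    let π : Equiv.Perm (Fin m ⊕ Fin m) := Equiv.sumCongr (Equiv.swap o w) (Equiv.swap o w)
    have hπ : ∀ a, π a.swap = (π a).swap := by rintro (i | i) <;> simp [π]
    set β := b / a with hβ
    set v1 : V := lv z + β • lv o with hv1
    set c2 := b * b / a with hc2
    have hT : tv (lv z) a * kv (lv z) (lv o) b = tv v1 a * tv (lv o) c2 := by
      refine sp_ext_vec fun x => ?_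
      simp only [sp_mul_mulVec, tv_mulVec, kv_mulVec _ _ hu, hv1, sf_add_right, sf_smul_right,
        sf_add_left, sf_smul_left, sf_lv, hc2, hβ]
      have h2 : (2 : F) = 0 := CharTwo.two_eq_zero
      simp [hzo]
      match_scalars <;> field_simp <;> grind
    refine ⟨permSp π hπ * tv (rv z) 1, ?_⟩
    simp only [hT]
    set t := tv v1 a * tv (lv o) c2 with ht
    set y := permSp (F := F) π hπ * tv (rv z) 1 with hy
    have hys : y * t * y⁻¹ = tv (lv z + β • lv w + rv z) a * tv (lv w) c2 := by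
      have hmap : ∀ (i : Fin m), (permSp (F := F) π hπ).1 *ᵥ lv i = lv (Equiv.swap o w i) :=
        fun i => by rw [lv, permSp_single]; rfl
      have hmapr : (permSp (F := F) π hπ).1 *ᵥ rv z = rv z := by
        rw [rv, permSp_single]
        simp [π, Equiv.swap_apply_of_ne_of_ne hzo hzw]
      rw [ht, show y * (tv v1 a * tv (lv o) c2) * y⁻¹ = y * tv v1 a * y⁻¹ * (y * tv (lv o) c2 * y⁻¹)
        by group, tv_conj, tv_conj]
      congr 2
      · rw [hy, sp_mul_mulVec, tv_mulVec, hv1, sf_add_left, sf_smul_left, sf_rv, sf_rv]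
        simp [Matrix.mulVec_add, Matrix.mulVec_smul, hmap, hmapr, CharTwo.neg_eq, hzo,
          Equiv.swap_apply_of_ne_of_ne hzo hzw]
      · rw [hy, sp_mul_mulVec, tv_mulVec, sf_rv]
        simp [hmap, hzo]
    rw [hys]
    set v1' : V := lv z + β • lv w + rv z with hv1'
    set s := tv v1' a * tv (lv w) c2 with hs
    refine ⟨⟨v1, ?_⟩, rv o + β • lv z + β • rv z, rv o, ?_⟩
    · intro h
      have h2 := congrFun h (.inl z)
      simp only [ht, hs, sp_mul_mulVec, tv_mulVec, hv1, hv1', sf_add_right, sf_smul_right, sf_lv,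
        sf_rv, sf_add_left, sf_smul_left] at h2
      simp [hzo, hzo.symm, hzw, hzw.symm, how, how.symm, CharTwo.neg_eq] at h2
      grind
    · set r : V := rv o + β • lv z + β • rv z with hr
      have hsr : s.1 *ᵥ r = r := by
        simp only [hs, sp_mul_mulVec, tv_mulVec, hr, hv1', sf_add_right, sf_smul_right, sf_lv,
          sf_rv, sf_add_left, sf_smul_left]
        simp [hzo, hzo.symm, hzw, hzw.symm, how, how.symm, CharTwo.neg_eq,
          CharTwo.add_self_eq_zero]
      have hsl : s.1 *ᵥ lv o = (lv o : V) := by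
        simp only [hs, sp_mul_mulVec, tv_mulVec, hv1', sf_add_right, sf_smul_right, sf_lv,
          sf_rv, sf_add_left, sf_smul_left]
        simp [hzo, hzo.symm, how, how.symm]
      have htr : t.1 *ᵥ r = r + c2 • lv o := by
        simp only [ht, sp_mul_mulVec, tv_mulVec, hr, hv1, sf_add_right, sf_smul_right, sf_lv,
          sf_rv, sf_add_left, sf_smul_left]
        simp [hzo, hzo.symm, CharTwo.add_self_eq_zero]
      have htl : t.1 *ᵥ lv o = (lv o : V) := by
        simp only [ht, sp_mul_mulVec, tv_mulVec, hv1, sf_add_right, sf_smul_right, sf_lv,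
          sf_add_left, sf_smul_left]
        simp
      intro k hk
      have hkey : ∀ j : ℕ, ((t * s) ^ j).1 *ᵥ r = r + ((j : F) * c2) • lv o := by
        intro j
        induction j with
        | zero => rw [pow_zero, sp_one_mulVec]; simp
        | succ j ih =>
          rw [pow_succ', sp_mul_mulVec, ih, sp_mul_mulVec]
          simp only [Matrix.mulVec_add, Matrix.mulVec_smul, hsr, hsl, htr, htl]
          push_cast
          module
      rw [hkey, add_sub_cancel_left, sf_smul_left, sf_rv]
      obtain ⟨j, rfl⟩ := hk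
      simp [CharTwo.two_eq_zero, hc2, ha, hb]

end two

end CfsgLib.Sp
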