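import Mathlib
import Cfsg.Prelude.Def_LieTypeDatum
import Cfsg.Agent.Lib.Sp.Basic

/-!
Automorphisms of `PSp` induced by semilinear similitudes.
-/

set_option autoImplicit false

namespace CfsgLib.Sp

open Matrix

variable {m : ℕ} {F : Type*} [Field F]

local notation "V" => (Fin m ⊕ Fin m → F)

theorem mem_gsp_iff {g : GL (Fin m ⊕ Fin m) F} :
    g ∈ Cfsg.GSp m F ↔ ∃ c : Fˣ, ∀ u v, sf (g.1 *ᵥ u) (g.1 *ᵥ v) = (c : F) * sf u v := Iff.rfl

theorem sf_map (σ : RingAut F) (u v : V) :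
    sf (fun i => σ (u i)) (fun i => σ (v i)) = σ (sf u v) := by
  simp [sf_eq, map_sum, map_sub, map_mul]

theorem map_mulVec_sigma (σ : RingAut F) (M : Matrix (Fin m ⊕ Fin m) (Fin m ⊕ Fin m) F) (u : V) :
    (M.map σ) *ᵥ (fun i => σ (u i)) = fun i => σ ((M *ᵥ u) i) := by
  funext i
  simp [Matrix.mulVec, dotProduct, map_sum, map_mul]

theorem gsp_conj_mem {g : GL (Fin m ⊕ Fin m) F} (hg : g ∈ Cfsg.GSp m F)
    (A : Matrix.symplecticGroup (Fin m) F) :
    g.1 * A.1 * (g⁻¹).1 ∈ Matrix.symplecticGroup (Fin m) F := by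
  obtain ⟨c, hc⟩ := mem_gsp_iff.1 hg
  refine mem_sp_iff.2 fun u v => ?_
  simp only [← Matrix.mulVec_mulVec]
  rw [hc, sf_sp]
  have h := hc ((g⁻¹).1 *ᵥ u) ((g⁻¹).1 *ᵥ v)
  rwa [Matrix.mulVec_mulVec, Matrix.mulVec_mulVec, ← Units.val_mul, mul_inv_cancel, Units.val_one,
    Matrix.one_mulVec, Matrix.one_mulVec, eq_comm] at h

/-- Conjugation of `Sp` by a similitude. -/
def spConj : ↥(Cfsg.GSp m F) →* MulAut (Matrix.symplecticGroup (Fin m) F) where
  toFun g :=
    { toFun := fun A => ⟨g.1.1 * A.1 * (g.1⁻¹).1, gsp_conj_mem g.2 A⟩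
      invFun := fun A => ⟨(g.1⁻¹).1 * A.1 * g.1.1, by simpa using gsp_conj_mem (g⁻¹).2 A⟩
      left_inv := fun A => Subtype.ext (by simp [mul_assoc])
      right_inv := fun A => Subtype.ext (by simp [mul_assoc])
      map_mul' := fun A B => Subtype.ext (by simp [mul_assoc]) }
  map_one' := MulEquiv.ext fun A => Subtype.ext (by simp)
  map_mul' g h := MulEquiv.ext fun A => Subtype.ext (by simp [mul_assoc])

@[simp] theorem spConj_val (g : ↥(Cfsg.GSp m F)) (A : Matrix.symplecticGroup (Fin m) F) :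
    (spConj g A).1 = g.1.1 * A.1 * (g.1⁻¹).1 := rfl

/-- A field automorphism applied entrywise. -/
def spFieldFun (σ : RingAut F) : MulAut (Matrix.symplecticGroup (Fin m) F) where
  toFun A := ⟨A.1.map σ, SymplecticGroup.map_mem A.2 σ.toRingHom⟩
  invFun A := ⟨A.1.map σ.symm, SymplecticGroup.map_mem A.2 σ.symm.toRingHom⟩
  left_inv A := Subtype.ext (by ext i j; simp)
  right_inv A := Subtype.ext (by ext i j; simp)
  map_mul' A B := Subtype.ext (by
    show (A.1 * B.1).map σ.toRingHom = A.1.map σ.toRingHom * B.1.map σ.toRingHom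
    exact Matrix.map_mul)

/-- Field automorphisms as a hom. -/
def spField : RingAut F →* MulAut (Matrix.symplecticGroup (Fin m) F) where
  toFun := spFieldFun
  map_one' := MulEquiv.ext fun s => Subtype.ext (by ext i j; rfl)
  map_mul' σ τ := MulEquiv.ext fun s => Subtype.ext (by ext i j; rfl)

@[simp] theorem spField_val (σ : RingAut F) (A : Matrix.symplecticGroup (Fin m) F) :
    (spField σ A).1 = A.1.map σ := rfl

/-- Passing to the quotient by the centre. -/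
def quotAut : MulAut (Matrix.symplecticGroup (Fin m) F) →* MulAut (Cfsg.PSp m F) where
  toFun e := QuotientGroup.congr _ _ e
    (Subgroup.characteristic_iff_map_eq.1 inferInstance e)
  map_one' := MulEquiv.ext fun x => by
    obtain ⟨s, rfl⟩ := QuotientGroup.mk'_surjective _ x; rfl
  map_mul' e e' := MulEquiv.ext fun x => by
    obtain ⟨s, rfl⟩ := QuotientGroup.mk'_surjective _ x; rfl

/-- The automorphism induced by `v ↦ g σ v`. -/
def ind (g : ↥(Cfsg.GSp m F)) (σ : RingAut F) : MulAut (Cfsg.PSp m F) :=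
  quotAut (spConj g * spField σ)

theorem ind_pr (g : ↥(Cfsg.GSp m F)) (σ : RingAut F) (A : Matrix.symplecticGroup (Fin m) F) :
    ind g σ (pr A) = pr (spConj g (spField σ A)) := rfl

/-- The image of a vector under `v ↦ g σ v`. -/
def act (g : GL (Fin m ⊕ Fin m) F) (σ : RingAut F) (v : Fin m ⊕ Fin m → F) :
    Fin m ⊕ Fin m → F := g.1 *ᵥ fun i => σ (v i)

theorem act_ne_zero (g : GL (Fin m ⊕ Fin m) F) (σ : RingAut F) {v : V} (hv : v ≠ 0) :
    act g σ v ≠ 0 := by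
  intro h
  refine hv (funext fun i => σ.injective ?_)
  have h2 := congrArg ((g⁻¹).1 *ᵥ ·) h
  simp only [act, Matrix.mulVec_mulVec, ← Units.val_mul, inv_mul_cancel, Units.val_one,
    Matrix.one_mulVec, Matrix.mulVec_zero] at h2
  rw [congrFun h2 i]
  simp

theorem ind_pT_val (g : ↥(Cfsg.GSp m F)) (σ : RingAut F) {k : Fˣ}
    (hk : ∀ u v, sf (g.1.1 *ᵥ u) (g.1.1 *ᵥ v) = (k : F) * sf u v) (v : V) (c : F) :
    ind g σ (pT v c) = pT (act g.1 σ v) (σ c / k) := by
  rw [pT, ind_pr]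
  refine congrArg pr (sp_ext_vec fun x => ?_)
  set y : V := fun i => σ.symm (((g.1⁻¹).1 *ᵥ x) i) with hy
  have hyσ : (fun i => σ (y i)) = (g.1⁻¹).1 *ᵥ x := funext fun i => σ.apply_symm_apply _
  have hx : x = g.1.1 *ᵥ fun i => σ (y i) := by
    rw [hyσ, Matrix.mulVec_mulVec, ← Units.val_mul, mul_inv_cancel, Units.val_one,
      Matrix.one_mulVec]
  rw [spConj_val, spField_val, ← Matrix.mulVec_mulVec, ← Matrix.mulVec_mulVec, ← hyσ,
    map_mulVec_sigma, tv_mulVec, tv_mulVec]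
  conv_rhs => rw [hx]
  unfold act
  rw [hk, sf_map]
  rw [show (fun i => σ ((y + (c * sf y v) • v) i)) =
      (fun i => σ (y i)) + (σ c * σ (sf y v)) • (fun i => σ (v i)) from
    funext fun i => by simp [map_add, map_mul]]
  rw [Matrix.mulVec_add, Matrix.mulVec_smul]
  congr 2
  field_simp

theorem ind_pT (g : ↥(Cfsg.GSp m F)) (σ : RingAut F) (v : V) (c : F) :
    ∃ d : F, (c ≠ 0 → d ≠ 0) ∧ ind g σ (pT v c) = pT (act g.1 σ v) d := by
  obtain ⟨k, hk⟩ := mem_gsp_iff.1 g.2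
  exact ⟨σ c / k, fun hc => div_ne_zero (by simpa using hc) k.ne_zero, ind_pT_val g σ hk v c⟩

theorem ind_isInduced (g : ↥(Cfsg.GSp m F)) (σ : RingAut F) :
    Cfsg.IsInducedBySemilinearPSp g.1 σ (ind g σ) := by
  intro s s' h
  exact congrArg pr (Subtype.ext (h.symm))

theorem isInduced_iff {g : ↥(Cfsg.GSp m F)} {σ : RingAut F} {β : MulAut (Cfsg.PSp m F)} :
    Cfsg.IsInducedBySemilinearPSp g.1 σ β ↔ β = ind g σ := by
  refine ⟨fun h => MulEquiv.ext fun x => ?_, fun h => h ▸ ind_isInduced g σ⟩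
  obtain ⟨s, rfl⟩ := QuotientGroup.mk'_surjective _ x
  exact h s (spConj g (spField σ s)) rfl

theorem isStdField_iff {σ : RingAut F} {β : MulAut (Cfsg.PSp m F)} :
    Cfsg.IsStdFieldAutPSp σ β ↔ β = ind 1 σ := by
  rw [← isInduced_iff]
  refine forall₂_congr fun s s' => ?_
  simp

theorem isInnerDiagonal_iff {β : MulAut (Cfsg.PSp m F)} :
    Cfsg.IsInnerDiagonalAutPSp β ↔ ∃ g : ↥(Cfsg.GSp m F), β = ind g 1 := by
  constructor
  · rintro ⟨g, hg, h⟩
    exact ⟨⟨g, hg⟩, isInduced_iff.1 h⟩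
  · rintro ⟨g, rfl⟩
    exact ⟨g.1, g.2, ind_isInduced g 1⟩

end CfsgLib.Sp
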