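import Mathlib
import Cfsg.Agent.Lib.Sp.Centre
import Cfsg.Agent.Lib.Sp.Ind
import Cfsg.Agent.Lib.ProjGeom.Fundamental

/-!
Every automorphism of `PSp` over a finite field is induced by a semilinear similitude, apart from
rank two in characteristic two.
-/

set_option autoImplicit false

namespace CfsgLib.Sp

open Matrix

variable {m : ℕ} {F : Type*} [Field F]

local notation "V" => (Fin m ⊕ Fin m → F)

theorem pow_coprime_sub_one {p k : ℕ} (hp : p.Prime) (hk : 0 < k) : ¬ p ∣ p ^ k - 1 := by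
  intro h
  have h1 : p ∣ p ^ k := dvd_pow_self p hk.ne'
  have h2 : 1 ≤ p ^ k := Nat.one_le_pow _ _ hp.pos
  have h3 : p ∣ p ^ k - (p ^ k - 1) := Nat.dvd_sub h1 h
  rw [Nat.sub_sub_self h2] at h3
  exact hp.one_lt.ne' (Nat.dvd_one.1 h3)

variable [Finite F]

instance : Finite (Matrix.symplecticGroup (Fin m) F) :=
  Finite.of_injective (fun X => (X.1 : Matrix _ _ F)) Subtype.val_injective

variable (p : ℕ) [Fact p.Prime] [CharP F p]

/-- A transvection centralises a Sylow `p`-subgroup. -/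
theorem exists_sylow_centralizes (hm : 1 ≤ m) {v : V} (hv : v ≠ 0) (c : F) :
    ∃ Q : Sylow p (Cfsg.PSp m F), ∀ q ∈ Q, Commute (pT v c) q := by
  classical
  haveI : Fintype F := Fintype.ofFinite F
  haveI : Finite (Cfsg.PSp m F) := Quotient.finite _
  let St : Subgroup (Matrix.symplecticGroup (Fin m) F) :=
    { carrier := {A | A.1 *ᵥ v = v}
      mul_mem' := fun {A B} (hA : A.1 *ᵥ v = v) (hB : B.1 *ᵥ v = v) =>
        show (A * B).1 *ᵥ v = v by rw [sp_mul_mulVec, hB, hA]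
      one_mem' := sp_one_mulVec v
      inv_mem' := fun {A} (hA : A.1 *ᵥ v = v) =>
        show (A⁻¹).1 *ᵥ v = v by
          conv_lhs => rw [← hA]
          exact sp_inv_mulVec A v }
  have hidx : St.index = Nat.card F ^ (2 * m) - 1 := by
    rw [Subgroup.index_eq_card]
    let f : Matrix.symplecticGroup (Fin m) F ⧸ St → {x : V // x ≠ 0} :=
      Quotient.lift (fun A => ⟨A.1 *ᵥ v, sp_mulVec_ne_zero A hv⟩) fun A B h => by
        have h' : (A⁻¹ * B).1 *ᵥ v = v := QuotientGroup.leftRel_apply.1 h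
        apply Subtype.ext
        show A.1 *ᵥ v = B.1 *ᵥ v
        conv_lhs => rw [← h', sp_mul_mulVec, sp_mulVec_inv]
    rw [Nat.card_eq_of_bijective f ⟨?_, ?_⟩]
    · rw [Nat.card_eq_fintype_card, Fintype.card_subtype_compl, Fintype.card_subtype_eq,
        Fintype.card_fun, Fintype.card_sum, Fintype.card_fin, Nat.card_eq_fintype_card, two_mul]
    · rintro ⟨A⟩ ⟨B⟩ h
      refine QuotientGroup.eq.2 ?_
      show (A⁻¹ * B).1 *ᵥ v = v
      rw [sp_mul_mulVec, ← show A.1 *ᵥ v = B.1 *ᵥ v from congrArg Subtype.val h, sp_inv_mulVec]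
    · rintro ⟨w, hw⟩
      obtain ⟨A, hA⟩ := exists_move hv hw
      exact ⟨QuotientGroup.mk A, Subtype.ext hA⟩
  set C := Subgroup.centralizer {pT v c} with hC
  have hle : St.map pr ≤ C := by
    rintro _ ⟨A, hA, rfl⟩
    rw [hC, Subgroup.mem_centralizer_iff]
    rintro _ rfl
    have h2 : pr A * pT v c * (pr A)⁻¹ = pT v c := by rw [pT_conj, show A.1 *ᵥ v = v from hA]
    rw [← mul_inv_eq_iff_eq_mul.1 h2]
  have hpC : ¬ p ∣ C.index := by
    intro h
    have h1 : p ∣ St.index :=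
      (h.trans (Subgroup.index_dvd_of_le hle)).trans
        (Subgroup.index_map_dvd _ (QuotientGroup.mk'_surjective _))
    obtain ⟨k, -, hk⟩ := FiniteField.card F p
    rw [hidx, Nat.card_eq_fintype_card, hk, ← pow_mul] at h1
    exact pow_coprime_sub_one Fact.out (by have := k.pos; positivity) h1
  obtain ⟨R⟩ : Nonempty (Sylow p C) := inferInstance
  have hR : IsPGroup p ((R : Subgroup C).map C.subtype) := R.2.map _
  have hRi : ¬ p ∣ ((R : Subgroup C).map C.subtype).index := by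
    rw [Subgroup.index_map_subtype]
    exact (Fact.out : p.Prime).not_dvd_mul R.not_dvd_index hpC
  refine ⟨hR.toSylow hRi, fun q hq => ?_⟩
  obtain ⟨r, -, rfl⟩ : q ∈ (R : Subgroup C).map C.subtype := hq
  exact (Subgroup.mem_centralizer_iff.1 r.2 _ rfl)

/-- Automorphisms map transvections to transvections. -/
theorem map_pT (hm : 2 ≤ m) (h4 : m = 2 → p ≠ 2) (β : MulAut (Cfsg.PSp m F)) {v : V} (hv : v ≠ 0)
    {c : F} (hc : c ≠ 0) : ∃ (w : V) (d : F), w ≠ 0 ∧ d ≠ 0 ∧ β (pT v c) = pT w d := by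
  classical
  haveI : Finite (Cfsg.PSp m F) := Quotient.finite _
  obtain ⟨Q, hQ⟩ := exists_sylow_centralizes p (by omega) hv c
  obtain ⟨P₀, hP₀⟩ := ((isPGroup_uniGroup (m := m) (F := F) (p := p)).map pr).exists_le_sylow
  let Q' : Sylow p (Cfsg.PSp m F) := Q.comapOfInjective β.symm.toMonoidHom β.symm.injective
    (fun x _ => ⟨β x, β.symm_apply_apply x⟩)
  obtain ⟨g, hg⟩ := MulAction.exists_smul_eq (Cfsg.PSp m F) Q' P₀
  set x := g * β (pT v c) * g⁻¹ with hx
  have hcomm : ∀ y ∈ (uniGroup (m := m) (F := F)).map pr, Commute x y := by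
    intro y hy
    have hy' : y ∈ ((g • Q' : Sylow p (Cfsg.PSp m F)) : Subgroup (Cfsg.PSp m F)) := by
      rw [hg]; exact hP₀ hy
    rw [Sylow.coe_subgroup_smul, Subgroup.mem_pointwise_smul_iff_inv_smul_mem] at hy'
    have hy'' : β.symm (g⁻¹ * y * g) ∈ Q := by
      have h : g⁻¹ * y * g ∈ (Q' : Subgroup (Cfsg.PSp m F)) := by simpa [MulAut.smul_def] using hy'
      exact h
    have h1 := (hQ _ hy'').map β
    rw [MulEquiv.apply_symm_apply] at h1
    have h2 := h1.map (MulAut.conj g)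
    simp only [MulAut.conj_apply, ← hx] at h2
    rwa [show g * (g⁻¹ * y * g) * g⁻¹ = y by group] at h2
  let z : Fin m := ⟨0, by omega⟩
  let o : Fin m := ⟨1, by omega⟩
  obtain ⟨a, b, hu, hbb, hxe⟩ := eq_of_commute_uni hm (z := z) (o := o) rfl rfl
    (fun w hw => hcomm _ ⟨_, tv_mem_uni_inl w hw 1, rfl⟩)
    (fun i j hij => hcomm _ ⟨_, kv_mem_uni hij 1, rfl⟩)
  have hb : b = 0 := by
    by_contra hb
    have h2 : (2 : F) = 0 := by
      rw [← one_add_one_eq_two]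
      exact (mul_eq_zero.1 (show (1 + 1 : F) * b = 0 by rw [add_mul, one_mul, hbb])).resolve_right hb
    haveI : CharP F 2 := CharTwo.of_one_ne_zero_of_two_eq_zero one_ne_zero h2
    have hp2 : p = 2 := CharP.eq F ‹CharP F p› ‹CharP F 2›
    have hm3 : 3 ≤ m := by
      by_contra h
      exact h4 (by omega) hp2
    refine not_oddTransp hm3 (z := z) (o := o) (w := ⟨2, by omega⟩) (by simp [z, o]) (by simp [z])
      (by simp [o]) a b hb hu ?_
    rw [← hxe, hx, ← MulAut.conj_apply]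
    exact ((oddTransp_pT (by omega) v c).map β).map _
  subst hb
  have hk : kv (lv z) (lv o) (0 : F) = 1 := by simp [kv, tv_zero]
  rw [hk, mul_one] at hxe
  obtain ⟨G, hG⟩ := QuotientGroup.mk'_surjective _ g⁻¹
  refine ⟨G.1 *ᵥ lv z, a, sp_mulVec_ne_zero _ (lv_ne_zero z), ?_, ?_⟩
  · intro ha
    subst ha
    rw [tv_zero, map_one, hx, conj_eq_one_iff] at hxe
    exact pT_ne_one hm hv hc (β.map_eq_one_iff.1 hxe)
  · rw [← pT_conj, show pr G = g⁻¹ from hG, show pT (lv z) a = x from hxe.symm, hx]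
    group

/-- The classification of automorphisms of `PSp`. -/
theorem aut_classify_of_maps (hm : 2 ≤ m) (β : MulAut (Cfsg.PSp m F))
    (H : ∀ (v : V), v ≠ 0 → ∀ (c : F), c ≠ 0 →
      ∃ (w : V) (d : F), w ≠ 0 ∧ d ≠ 0 ∧ β (pT v c) = pT w d)
    (H' : ∀ (v : V), v ≠ 0 → ∀ (c : F), c ≠ 0 →
      ∃ (w : V) (d : F), w ≠ 0 ∧ d ≠ 0 ∧ β.symm (pT v c) = pT w d) :
    ∃ (g : ↥(Cfsg.GSp m F)) (σ : RingAut F), β = ind g σ := by
  classical
  choose W D hW0 hD0 hWD using fun (v : V) (hv : v ≠ 0) =>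
    H v hv 1 one_ne_zero
  let f : V → V := fun v => if hv : v = 0 then 0 else W v hv
  have hf : ∀ v, v ≠ 0 → f v ≠ 0 ∧ ∃ d : F, d ≠ 0 ∧ β (pT v 1) = pT (f v) d := by
    intro v hv
    simp only [f, dif_neg hv]
    exact ⟨hW0 v hv, D v hv, hD0 v hv, hWD v hv⟩
  have horth : ∀ v w, v ≠ 0 → w ≠ 0 → (sf (f v) (f w) = 0 ↔ sf v w = 0) := by
    intro v w hv hw
    obtain ⟨hv0, d, hd, hvd⟩ := hf v hv
    obtain ⟨hw0, e, he, hwe⟩ := hf w hw
    rw [← pT_commute_iff hm hv0 hw0 hd he, ← pT_commute_iff hm hv hw one_ne_zero one_ne_zero,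
      ← hvd, ← hwe]
    exact ⟨fun h => by simpa using h.map β.symm, fun h => h.map β⟩
  -- images of transvections with the same centre
  have hpoint : ∀ (v : V) (hv : v ≠ 0) (c : F), c ≠ 0 → ∀ (w : V) (d : F), w ≠ 0 → d ≠ 0 →
      β (pT v c) = pT w d → ∃ a : F, a ≠ 0 ∧ w = a • f v := by
    intro v hv c hc w d hw hd h
    obtain ⟨hv0, e, he, hve⟩ := hf v hv
    have h2 := eq_smul_of_orth hv0 (w := w) fun x hx => by
      rcases eq_or_ne x 0 with rfl | hx0
      · simp [Cfsg.sympForm]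
      obtain ⟨u, k, hu, hk, huk⟩ := H' x hx0 1 one_ne_zero
      rw [← pT_commute_iff hm hx0 hv0 one_ne_zero he] at hx
      rw [← pT_commute_iff hm hx0 hw one_ne_zero hd]
      have h1 : Commute (pT u k) (pT v 1) := by
        have h3 := hx.map β.symm
        rwa [huk, ← hve, MulEquiv.symm_apply_apply] at h3
      have h4 : Commute (pT u k) (pT v c) :=
        (pT_commute_iff hm hu hv hk hc).2 ((pT_commute_iff hm hu hv hk one_ne_zero).1 h1)
      have h5 := h4.map β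
      rwa [h, ← huk, MulEquiv.apply_symm_apply] at h5
    refine ⟨_, fun h0 => hw ?_, h2⟩
    rw [h2, h0, zero_smul]
  have hsurj : ∀ w, w ≠ 0 → ∃ v, v ≠ 0 ∧ ProjGeom.Prop1 w (f v) := by
    intro w hw
    obtain ⟨v, c, hv, hc, hvc⟩ := H' w hw 1 one_ne_zero
    obtain ⟨a, ha, hwa⟩ := hpoint v hv c hc w 1 hw one_ne_zero
      (by rw [← hvc, MulEquiv.apply_symm_apply])
    exact ⟨v, hv, a⁻¹, inv_ne_zero ha, by rw [hwa, inv_smul_smul₀ ha]⟩
  have hcol : ProjGeom.IsCollineation f := by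
    refine ⟨fun v hv => (hf v hv).1, fun u v w hu hv hw => ?_, hsurj⟩
    rw [mem_span_pair_iff, mem_span_pair_iff]
    constructor
    · intro h x hxv hxw
      rcases eq_or_ne x 0 with rfl | hx0
      · simp [Cfsg.sympForm]
      exact (horth x u hx0 hu).1 (h _ ((horth x v hx0 hv).2 hxv) ((horth x w hx0 hw).2 hxw))
    · intro h x hxv hxw
      rcases eq_or_ne x 0 with rfl | hx0
      · simp [Cfsg.sympForm]
      obtain ⟨y, hy, a, ha, hay⟩ := hsurj x hx0
      have hy' : ∀ z, sf (f y) z = 0 ↔ sf x z = 0 := fun z => by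
        rw [hay, sf_smul_left, mul_eq_zero]; simp [ha]
      rw [← hy', horth y u hy hu]
      exact h y ((horth y v hy hv).1 ((hy' _).2 hxv)) ((horth y w hy hw).1 ((hy' _).2 hxw))
  obtain ⟨g, σ, hgσ⟩ := ProjGeom.exists_semilinear (o := (Sum.inl ⟨0, by omega⟩ : Fin m ⊕ Fin m))
    (k₁ := Sum.inr ⟨0, by omega⟩) (k₂ := Sum.inl ⟨1, by omega⟩) (by simp) (by simp) (by simp) hcol
  have hg0 : ∀ {x : V}, x ≠ 0 → g.1 *ᵥ x ≠ 0 := fun {x} hx h => hx (by
    have h2 := congrArg ((g⁻¹).1 *ᵥ ·) h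
    simpa only [Matrix.mulVec_mulVec, ← Units.val_mul, inv_mul_cancel, Units.val_one,
      Matrix.one_mulVec, Matrix.mulVec_zero] using h2)
  -- the linear part is a similitude
  have hperp : ∀ x y : V, sf x y = 0 → sf (g.1 *ᵥ x) (g.1 *ᵥ y) = 0 := by
    intro x y hxy
    rcases eq_or_ne x 0 with rfl | hx
    · simp [Cfsg.sympForm]
    rcases eq_or_ne y 0 with rfl | hy
    · simp [Cfsg.sympForm]
    set x' : V := fun i => σ.symm (x i) with hx'
    set y' : V := fun i => σ.symm (y i) with hy'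
    have hxs : (fun i => σ (x' i)) = x := funext fun i => σ.apply_symm_apply _
    have hys : (fun i => σ (y' i)) = y := funext fun i => σ.apply_symm_apply _
    have hx0 : x' ≠ 0 := fun h => hx (by rw [← hxs, h]; funext i; simp)
    have hy0 : y' ≠ 0 := fun h => hy (by rw [← hys, h]; funext i; simp)
    obtain ⟨a, ha, hfa⟩ := hgσ x' hx0
    obtain ⟨b, hb, hfb⟩ := hgσ y' hy0
    have h2 : sf x' y' = 0 := by
      apply σ.injective
      rw [map_zero, ← sf_map, hxs, hys, hxy]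
    have h3 := (horth x' y' hx0 hy0).2 h2
    rw [hfa, hfb, hxs, hys, sf_smul_left, sf_smul_right] at h3
    simpa [ha, hb] using h3
  set J := Matrix.J (Fin m) F
  set T : Matrix (Fin m ⊕ Fin m) (Fin m ⊕ Fin m) F := -(J * (g.1ᵀ * J * g.1)) with hT
  have hTsf : ∀ x y, sf x (T *ᵥ y) = sf (g.1 *ᵥ x) (g.1 *ᵥ y) := by
    intro x y
    rw [sf_mulVec]
    show x ⬝ᵥ (J *ᵥ (T *ᵥ y)) = _
    rw [Matrix.mulVec_mulVec, hT, mul_neg, ← mul_assoc J J, Matrix.J_squared, neg_one_mul, neg_neg]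
  obtain ⟨k, hk⟩ := eq_smul_of_forall_eigen (f := Matrix.toLin' T) (by omega) fun y => by
    rcases eq_or_ne y 0 with rfl | hy
    · exact ⟨0, by simp⟩
    refine ⟨_, eq_smul_of_orth hy fun x hx => ?_⟩
    rw [Matrix.toLin'_apply, hTsf]
    exact hperp x y hx
  have hsim : ∀ u v, sf (g.1 *ᵥ u) (g.1 *ᵥ v) = k * sf u v := fun u v => by
    rw [← hTsf, ← Matrix.toLin'_apply, hk, sf_smul_right]
  have hk0 : k ≠ 0 := by
    intro h0
    refine hg0 (lv_ne_zero (⟨0, by omega⟩ : Fin m)) (eq_zero_of_sf fun y => ?_)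
    have h := hsim (lv ⟨0, by omega⟩) ((g⁻¹).1 *ᵥ y)
    rwa [Matrix.mulVec_mulVec _ g.1, ← Units.val_mul, mul_inv_cancel, Units.val_one,
      Matrix.one_mulVec, h0, zero_mul] at h
  let g' : ↥(Cfsg.GSp m F) := ⟨g, mem_gsp_iff.2 ⟨Units.mk0 k hk0, hsim⟩⟩
  refine ⟨g', σ, MulEquiv.ext fun x => ?_⟩
  -- compare the actions on points
  obtain ⟨X, rfl⟩ := QuotientGroup.mk'_surjective _ x
  obtain ⟨Y, hY⟩ := QuotientGroup.mk'_surjective _ (β (pr X))
  rw [ind_pr, show β (pr X) = pr Y from hY.symm]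
  set Z := spConj g' (spField σ X) with hZ
  refine (QuotientGroup.eq).2 (Subgroup.mem_center_iff.2 fun B => ?_)
  have hZact : ∀ v : V, Z.1 *ᵥ act g σ v = act g σ (X.1 *ᵥ v) := by
    intro v
    show (g.1 * X.1.map σ * (g⁻¹).1) *ᵥ (g.1 *ᵥ fun i => σ (v i)) = _
    rw [Matrix.mulVec_mulVec, mul_assoc, ← Units.val_mul, inv_mul_cancel, Units.val_one, mul_one,
      ← Matrix.mulVec_mulVec, map_mulVec_sigma]
    rfl
  have hpts : ∀ w : V, w ≠ 0 → ∃ a : F, Y.1 *ᵥ w = a • (Z.1 *ᵥ w) := by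
    intro w hw
    set v : V := fun i => σ.symm (((g⁻¹).1 *ᵥ w) i) with hv
    have hwv : w = act g σ v := by
      unfold act
      rw [show (fun i => σ (v i)) = (g⁻¹).1 *ᵥ w from funext fun i => σ.apply_symm_apply _,
        Matrix.mulVec_mulVec, ← Units.val_mul, mul_inv_cancel, Units.val_one, Matrix.one_mulVec]
    have hv0 : v ≠ 0 := by
      intro h
      refine hw ?_
      rw [hwv, h, act]
      simp [Matrix.mulVec_zero, show (fun _ : Fin m ⊕ Fin m => (0 : F)) = 0 from rfl]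
    have hXv : X.1 *ᵥ v ≠ 0 := sp_mulVec_ne_zero X hv0
    obtain ⟨hfv0, d, hd, hvd⟩ := hf v hv0
    have h1 : β (pT (X.1 *ᵥ v) 1) = pT (Y.1 *ᵥ f v) d := by
      rw [← pT_conj, map_mul, map_mul, map_inv, show β (pr X) = pr Y from hY.symm, hvd, pT_conj]
    obtain ⟨a, -, hYf⟩ := hpoint _ hXv 1 one_ne_zero _ d (sp_mulVec_ne_zero _ hfv0) hd h1
    obtain ⟨b, hb, hfb⟩ := hgσ v hv0
    obtain ⟨b', hb', hfb'⟩ := hgσ _ hXv
    refine ⟨b⁻¹ * (a * b'), ?_⟩
    rw [hwv, hZact]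
    have hfv : f v = b • act g σ v := hfb
    have hfX : f (X.1 *ᵥ v) = b' • act g σ (X.1 *ᵥ v) := hfb'
    rw [hfv, Matrix.mulVec_smul, hfX, smul_smul] at hYf
    rw [← smul_smul, ← hYf, inv_smul_smul₀ hb]
  obtain ⟨a, ha⟩ := eq_smul_of_forall_eigen (f := Matrix.toLin' (Y⁻¹ * Z).1) (by omega) fun w => by
    rcases eq_or_ne w 0 with rfl | hw
    · exact ⟨0, by simp⟩
    obtain ⟨a, ha⟩ := hpts w hw
    have ha0 : a ≠ 0 := fun h => sp_mulVec_ne_zero Y hw (by rw [ha, h, zero_smul])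
    refine ⟨a⁻¹, ?_⟩
    rw [Matrix.toLin'_apply, sp_mul_mulVec]
    conv_rhs => rw [← sp_inv_mulVec Y w, ha, Matrix.mulVec_smul, inv_smul_smul₀ ha0]
  have hscal : (Y⁻¹ * Z).1 = a • 1 := Matrix.ext_iff_mulVec.2 fun v => by
    rw [← Matrix.toLin'_apply, ha, Matrix.smul_mulVec, Matrix.one_mulVec]
  apply Subtype.ext
  rw [sp_mul_val B, sp_mul_val _ B, hscal, mul_smul_comm, mul_one, smul_mul_assoc, one_mul]

/-- Away from `Sp_4` in characteristic two every automorphism is semilinear. -/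
theorem aut_classify (hm : 2 ≤ m) (h4 : m = 2 → p ≠ 2) (β : MulAut (Cfsg.PSp m F)) :
    ∃ (g : ↥(Cfsg.GSp m F)) (σ : RingAut F), β = ind g σ :=
  aut_classify_of_maps hm β (fun _ hv _ hc => map_pT p hm h4 β hv hc)
    fun _ hv _ hc => map_pT p hm h4 β.symm hv hc

end CfsgLib.Sp
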