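import Mathlib
import Cfsg.Agent.Lib.Sp.AutFour
import Cfsg.Agent.Lib.AutPSL.Field

/-!
The order of the automorphism group of `PSp_2m(q)`.
-/

set_option autoImplicit false

namespace CfsgLib.Sp

open Cfsg

theorem card_mulAut {F : Type*} [Field F] [Fintype F] (p f : ℕ) [Fact p.Prime]
    (hF : Fintype.card F = p ^ f) (m : ℕ) (hm : 2 ≤ m) :
    Nat.card (MulAut (Cfsg.PSp m F)) = (if m = 2 ∧ p = 2 then 2 else 1) * Nat.gcd 2 (p ^ f - 1) *
      f * Nat.card (Cfsg.PSp m F) := by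
  classical
  haveI : CharP F p := charP_of_card_eq_prime_pow hF
  let θ : (indHom (m := m) (F := F)).range × RingAut F → MulAut (Cfsg.PSp m F) :=
    fun x => x.1.1 * ind 1 x.2
  have hθ : Function.Injective θ := by
    rintro ⟨⟨_, g, rfl⟩, σ⟩ ⟨⟨_, h, rfl⟩, τ⟩ he
    change indHom g * fieldHom σ = indHom h * fieldHom τ at he
    have h1 : indHom (h⁻¹ * g) * fieldHom (σ * τ⁻¹) = 1 := by
      rw [map_mul, map_mul, mul_assoc, ← mul_assoc (indHom g), he, map_inv, map_inv,
        mul_assoc (indHom h), mul_inv_cancel, mul_one, inv_mul_cancel]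
    change ind (h⁻¹ * g) 1 * ind 1 (σ * τ⁻¹) = 1 at h1
    rw [ind_mul, one_mul, map_one, mul_one] at h1
    obtain rfl : σ = τ := mul_inv_eq_one.1 (eq_one_of_ind_eq_one hm h1).1
    exact Prod.ext (Subtype.ext (mul_right_cancel he)) rfl
  have hmem : ∀ g σ, ∃ x, θ x = ind g σ := fun g σ =>
    ⟨⟨⟨_, g, rfl⟩, σ⟩, ind_mul_fieldHom g σ⟩
  have hc : Nat.card ((indHom (m := m) (F := F)).range × RingAut F) =
      Nat.gcd 2 (p ^ f - 1) * f * Nat.card (Cfsg.PSp m F) := by
    rw [Nat.card_prod, card_indHom_range hm, card_sp_eq_gcd_mul (by omega), hF,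
      CfsgLib.AutPSL.card_ringAut hF, mul_right_comm]
  by_cases h : m = 2 ∧ p = 2
  · obtain ⟨rfl, rfl⟩ := h
    rw [if_pos ⟨rfl, rfl⟩, mul_assoc 2, mul_assoc 2, ← hc]
    refine (Nat.card_eq_of_bijective (fun x : Bool × _ => cond x.1 excAut 1 * θ x.2)
      ⟨?_, ?_⟩).symm.trans (by rw [Nat.card_prod]; simp)
    · rintro ⟨e, x⟩ ⟨e', y⟩ he
      obtain rfl : e = e' := by
        have aux : ∀ u v : (indHom (m := 2) (F := F)).range × RingAut F,
            excAut * θ u ≠ θ v := by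
          rintro ⟨⟨_, h, rfl⟩, τ⟩ ⟨⟨_, g, rfl⟩, σ⟩ hh
          change excAut * (indHom h * fieldHom τ) = indHom g * fieldHom σ at hh
          have h1 : (excAut : MulAut (Cfsg.PSp 2 F)) =
              indHom g * fieldHom (σ * τ⁻¹) * indHom h⁻¹ := by
            rw [map_mul fieldHom, map_inv, map_inv, eq_mul_inv_iff_mul_eq, ← mul_assoc (indHom g),
              eq_mul_inv_iff_mul_eq, mul_assoc, hh]
          change _ = ind g 1 * ind 1 (σ * τ⁻¹) * ind h⁻¹ 1 at h1
          rw [ind_mul_fieldHom, ind_mul] at h1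
          exact excAut_ne_ind _ _ h1
        cases e <;> cases e' <;> simp only [cond_true, cond_false, one_mul] at he
        · rfl
        · exact absurd he.symm (aux _ _)
        · exact absurd he (aux _ _)
        · rfl
      exact Prod.ext rfl (hθ (mul_left_cancel he))
    · intro β
      obtain ⟨g, σ, hb | hb⟩ := aut_classify_four β
      · obtain ⟨x, hx⟩ := hmem g σ
        exact ⟨⟨false, x⟩, by simp [hx, hb]⟩
      · obtain ⟨g', σ', hb' | hb'⟩ := aut_classify_four (excAut⁻¹ * β)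
        · obtain ⟨x, hx⟩ := hmem g' σ'
          refine ⟨⟨true, x⟩, ?_⟩
          simp only [cond_true, hx, ← hb', mul_inv_cancel_left]
        · rw [mul_inv_cancel_left] at hb'
          obtain ⟨x, hx⟩ := hmem g' σ'
          exact ⟨⟨false, x⟩, by simp [hx, hb']⟩
  · rw [if_neg h, one_mul, ← hc]
    refine (Nat.card_eq_of_bijective θ ⟨hθ, fun β => ?_⟩).symm
    obtain ⟨g, σ, rfl⟩ := aut_classify p hm (fun h2 hp => h ⟨h2, hp⟩) β
    exact hmem g σ

end CfsgLib.Sp
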