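import Mathlib
import Cfsg.Agent.Lib.Sp.Field

/-!
The centraliser of a field automorphism of `PSp` in the inner-diagonal group.
-/

set_option autoImplicit false

namespace CfsgLib.Sp

open Matrix CfsgLib.Descent

variable {m : ℕ} {F : Type*} [Field F] [Fintype F]

theorem sf_ringHom {K : Type*} [Field K] (j : K →+* F) (u v : Fin m ⊕ Fin m → K) :
    sf (fun i => j (u i)) (fun i => j (v i)) = j (sf u v) := by
  simp [sf_eq, map_sum, map_sub, map_mul]

theorem map_mulVec_ringHom {K : Type*} [Field K] (j : K →+* F)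
    (M : Matrix (Fin m ⊕ Fin m) (Fin m ⊕ Fin m) K) (u : Fin m ⊕ Fin m → K) :
    (M.map j) *ᵥ (fun i => j (u i)) = fun i => j ((M *ᵥ u) i) := by
  funext i
  simp [Matrix.mulVec, dotProduct, map_sum, map_mul]

theorem map_mem_gsp {K : Type*} [Field K] (j : K →+* F) {g : GL (Fin m ⊕ Fin m) K}
    (hg : g ∈ Cfsg.GSp m K) : Matrix.GeneralLinearGroup.map j g ∈ Cfsg.GSp m F := by
  classical
  obtain ⟨c, hc⟩ := mem_gsp_iff.1 hg
  refine mem_gsp_iff.2 ⟨Units.map (j : K →* F) c, fun u v => ?_⟩
  -- both sides are bilinear, so it suffices to treat the standard basis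
  have key : (g.1.map j)ᵀ * Matrix.J (Fin m) F * g.1.map j = (j c) • Matrix.J (Fin m) F := by
    have h0 : g.1ᵀ * Matrix.J (Fin m) K * g.1 = (c : K) • Matrix.J (Fin m) K := by
      ext a b
      have h2 := hc (Pi.single a 1) (Pi.single b 1)
      rw [sf_mulVec] at h2
      simpa [Cfsg.sympForm] using h2
    have h1 := congrArg (fun X => X.map j) h0
    simp only [Matrix.map_mul, Matrix.transpose_map, Matrix.map_smul' _ _ _ (map_mul j),
      Matrix.map_J] at h1
    exact h1
  show sf ((g.1.map j) *ᵥ u) ((g.1.map j) *ᵥ v) = j c * sf u v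
  rw [sf_mulVec, key, Matrix.smul_mulVec, dotProduct_smul, smul_eq_mul]
  rfl

/-- The centraliser of a field automorphism is `PGSp` over the fixed field. -/
theorem pgsp_equiv_centralizer (hm : 2 ≤ m) {σ : RingAut F} {r : ℕ} (hr : orderOf σ = r)
    (hr0 : 0 < r) (F₀ : Type*) [Field F₀] [Fintype F₀]
    (hcard : Nat.card (fixedField σ) = Fintype.card F₀) :
    Nonempty (Cfsg.PGSp m F₀ ≃*
      (Cfsg.inndiagPSp m F ⊓ Subgroup.centralizer {ind (1 : ↥(Cfsg.GSp m F)) σ} :
        Subgroup (MulAut (Cfsg.PSp m F)))) := by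
  classical
  haveI : Fintype (fixedField σ) := Fintype.ofFinite _
  rw [Nat.card_eq_fintype_card] at hcard
  let e : F₀ ≃+* fixedField σ := FiniteField.ringEquivOfCardEq hcard.symm
  let j : F₀ →+* F := (fixedField σ).subtype.comp e.toRingHom
  have hjfix : ∀ a, σ (j a) = j a := fun a => (e a).2
  have hjsurj : ∀ y, σ y = y → ∃ a, j a = y := fun y hy => ⟨e.symm ⟨y, hy⟩, by simp [j]⟩
  let ι : ↥(Cfsg.GSp m F₀) →* ↥(Cfsg.GSp m F) :=
    ((Matrix.GeneralLinearGroup.map j).comp (Cfsg.GSp m F₀).subtype).codRestrict _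
      fun g => map_mem_gsp j g.2
  have hι : ∀ u a b, ((ι u).1).1 a b = j (u.1.1 a b) := fun _ _ _ => rfl
  set N := (Cfsg.Geo.scalars (Fin m ⊕ Fin m) F₀).subgroupOf (Cfsg.GSp m F₀)
  set x := ind (1 : ↥(Cfsg.GSp m F)) σ with hx
  have hker : (indHom.comp ι).ker = N := by
    ext u
    rw [MonoidHom.mem_ker, Subgroup.mem_subgroupOf, Cfsg.Geo.mem_scalars_iff]
    constructor
    · intro h
      obtain ⟨-, c, hc⟩ := eq_one_of_ind_eq_one hm (show ind (ι u) 1 = 1 from h)
      let z : Fin m ⊕ Fin m := .inl ⟨0, by omega⟩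
      have hent : ∀ a b, j (u.1.1 a b) = if a = b then (c : F) else 0 := fun a b => by
        rw [← hι, hc, gscal_val, Matrix.smul_apply, Matrix.one_apply]; simp
      have hz : j (u.1.1 z z) = c := by rw [hent, if_pos rfl]
      have hz0 : u.1.1 z z ≠ 0 := fun h0 => c.ne_zero (by rw [← hz, h0, map_zero])
      refine ⟨Units.mk0 _ hz0, ?_⟩
      ext a b
      apply j.injective
      rw [hent, Matrix.smul_apply, Matrix.one_apply, Units.val_mk0, smul_eq_mul, map_mul,
        apply_ite j, map_one, map_zero, hz]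
      simp
    · rintro ⟨c, hc⟩
      have hu : ι u = gscal (Units.map (j : F₀ →* F) c) := by
        apply Subtype.ext; apply Units.ext
        ext a b
        rw [hι, gscal_val, hc]
        simp [Matrix.one_apply, apply_ite j]
      show indHom (ι u) = 1
      rw [hu, indHom_apply, ← mul_one (gscal _), ind_gscal_mul, ind_one_one]
  have hrange : (indHom.comp ι).range = Cfsg.inndiagPSp m F ⊓ Subgroup.centralizer {x} := by
    rw [inndiag_eq_range]
    apply le_antisymm
    · rintro _ ⟨u, rfl⟩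
      refine ⟨⟨ι u, rfl⟩, ?_⟩
      have h : ι u ∈ (Subgroup.centralizer {x}).comap indHom := by
        refine (mem_centPre hm).2 ⟨1, ?_⟩
        rw [map_one, one_mul]
        apply Subtype.ext; apply Units.ext
        ext a b
        exact (hjfix _).symm
      exact h
    · rintro _ ⟨⟨g, rfl⟩, hg⟩
      obtain ⟨b, hb⟩ := centPre_decomp hm hr hr0 (g := g) hg
      have hb' : ∀ i k, σ ((gscal b * g).1.1 i k) = (gscal b * g).1.1 i k := fun i k =>
        congrArg (fun X : ↥(Cfsg.GSp m F) => X.1.1 i k) hb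
      choose A hA using fun i k => hjsurj _ (hb' i k)
      set M : Matrix (Fin m ⊕ Fin m) (Fin m ⊕ Fin m) F₀ := Matrix.of A
      have hM : M.map j = (gscal b * g).1.1 := by ext i k; exact hA i k
      have hAdet : M.det ≠ 0 := by
        intro h0
        have h1 : j M.det = (M.map j).det := j.map_det M
        rw [h0, map_zero, hM] at h1
        exact (Matrix.GeneralLinearGroup.det (gscal b * g).1).ne_zero h1.symm
      obtain ⟨k, hk⟩ := mem_gsp_iff.1 (gscal b * g).2
      let z : Fin m := ⟨0, by omega⟩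
      set k₀ := sf (M *ᵥ (rv z : Fin m ⊕ Fin m → F₀)) (M *ᵥ lv z) with hk₀
      have hjk : j k₀ = k := by
        rw [hk₀, ← sf_ringHom, ← map_mulVec_ringHom, ← map_mulVec_ringHom, hM, hk, sf_ringHom,
          sf_lv]
        simp
      have hk0 : k₀ ≠ 0 := fun h => k.ne_zero (by rw [← hjk, h, map_zero])
      have hmem : Matrix.GeneralLinearGroup.mkOfDetNeZero M hAdet ∈ Cfsg.GSp m F₀ := by
        refine mem_gsp_iff.2 ⟨Units.mk0 k₀ hk0, fun u v => j.injective ?_⟩
        show j (sf (M *ᵥ u) (M *ᵥ v)) = j (k₀ * sf u v)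
        rw [← sf_ringHom, ← map_mulVec_ringHom, ← map_mulVec_ringHom, hM, hk, map_mul, hjk,
          sf_ringHom]
      refine ⟨⟨_, hmem⟩, ?_⟩
      show ind (ι ⟨_, hmem⟩) 1 = ind g 1
      rw [show ι ⟨_, hmem⟩ = gscal b * g from Subtype.ext (Units.ext hM), ind_gscal_mul]
  exact ⟨(QuotientGroup.quotientMulEquivOfEq hker.symm).trans
    ((QuotientGroup.quotientKerEquivRange _).trans (MulEquiv.subgroupCongr hrange))⟩

end CfsgLib.Sp
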