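import Cfsg.Prelude.Def_Solvable
import Cfsg.Agent.Lib.Sp.AutFour
import Cfsg.Agent.Lib.Sp.FieldCentralizer
import Cfsg.Agent.Lib.Coprime.Core
import Cfsg.Agent.Lib.Classical.PSpSimple
import Cfsg.Agent.Lib.Classical.SpFourTwo

/-!
The `p'`-core of the centraliser of a field automorphism of prime order `p` of `PSp_2m`.
-/

set_option autoImplicit false

namespace CfsgLib.Sp

open Matrix CfsgLib.Descent

variable {m : ℕ} {F : Type*} [Field F] [Fintype F] (r : ℕ) [Fact r.Prime] [CharP F r]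

local notation "V" => Fin m ⊕ Fin m → F
local notation "PS" => Cfsg.PSp m F

include r in
theorem exists_ind_of_fix (hm : 2 ≤ m) (a : MulAut PS) (i : Fin m)
    (hfix : a (pT (lv i) 1) = pT (lv i) 1) (hi : i.val = 0) :
    ∃ (g : ↥(Cfsg.GSp m F)) (τ : RingAut F), a = ind g τ := by
  by_cases h4 : m = 2 ∧ r = 2
  · obtain ⟨rfl, rfl⟩ := h4
    obtain rfl : i = 0 := Fin.ext hi
    exact classify_of_pT hfix
  · exact aut_classify r hm (fun h h' => h4 ⟨h, h'⟩) a

/-- An outer automorphism of odd order, or in odd characteristic, is semilinear. -/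
theorem exists_ind_of_orderOf (hm : 2 ≤ m) {p : ℕ} (hp : p.Prime) (hpr : p ≠ r) {x : MulAut PS}
    (hx : orderOf x = p) : ∃ (g : ↥(Cfsg.GSp m F)) (τ : RingAut F), x = ind g τ := by
  by_cases h4 : m = 2 ∧ r = 2
  swap
  · exact aut_classify r hm (fun h h' => h4 ⟨h, h'⟩) x
  obtain ⟨rfl, rfl⟩ := h4
  haveI : Finite (Cfsg.PSp 2 F) := Quotient.finite _
  let W : Submonoid (MulAut (Cfsg.PSp 2 F)) :=
    { carrier := {β | ∃ (g : ↥(Cfsg.GSp 2 F)) (τ : RingAut F), β = ind g τ}
      one_mem' := ⟨1, 1, ind_one_one.symm⟩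
      mul_mem' := by
        rintro _ _ ⟨g, σ, rfl⟩ ⟨h, τ, rfl⟩
        exact ⟨_, _, ind_mul g h σ τ⟩ }
  have hsq : x ^ 2 ∈ W := by
    obtain ⟨g, σ, h⟩ := aut_classify_four x
    rcases h with h | h
    · exact pow_mem (show x ∈ W from ⟨g, σ, h⟩) 2
    obtain ⟨g', σ', h'⟩ := aut_classify_four (x ^ 2)
    rcases h' with h' | h'
    · exact ⟨g', σ', h'⟩
    exfalso
    set w := ind g σ
    set w' := ind g' σ'
    have e : w * (excAut : MulAut (Cfsg.PSp 2 F))⁻¹ * w = w' := by
      rw [← h', ← h, sq]; group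
    have hinv : ∀ (g : ↥(Cfsg.GSp 2 F)) (τ : RingAut F), (ind g τ)⁻¹ ∈ W := by
      intro g τ
      haveI : Finite (MulAut (Cfsg.PSp 2 F)) :=
        Finite.of_injective (fun e => (e : Cfsg.PSp 2 F → Cfsg.PSp 2 F)) DFunLike.coe_injective
      obtain ⟨k, hk⟩ := (IsOfFinOrder.mem_powers_iff_mem_zpowers (x := ind g τ)
        (y := (ind g τ)⁻¹) (isOfFinOrder_of_finite _)).2 (inv_mem (Subgroup.mem_zpowers _))
      exact hk ▸ pow_mem (show ind g τ ∈ W from ⟨g, τ, rfl⟩) k
    have hexc : (excAut : MulAut (Cfsg.PSp 2 F)) ∈ W := by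
      have : (excAut : MulAut (Cfsg.PSp 2 F)) = w * w'⁻¹ * w := by rw [← e]; group
      rw [this]
      exact mul_mem (mul_mem ⟨g, σ, rfl⟩ (hinv g' σ')) ⟨g, σ, rfl⟩
    obtain ⟨g'', σ'', hh⟩ := hexc
    exact excAut_ne_ind g'' σ'' hh
  obtain ⟨k, hk⟩ : ∃ k, p + 1 = 2 * k := by
    obtain ⟨k, hk⟩ := hp.odd_of_ne_two hpr
    exact ⟨k + 1, by omega⟩
  have : x = (x ^ 2) ^ k := by rw [← pow_mul, ← hk, pow_succ, ← hx, pow_orderOf_eq_one, one_mul]
  rw [this]
  exact pow_mem hsq k

/-- A non-inner-diagonal automorphism of prime order `p ≠ r` is conjugate to a field automorphism. -/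
theorem exists_conj_field (hm : 2 ≤ m) {p : ℕ} (hp : p.Prime) (hpr : p ≠ r) {x : MulAut PS}
    (hx : orderOf x = p) (hnot : ¬ Cfsg.IsInnerDiagonalAutPSp x) :
    ∃ (α : MulAut PS) (σ : RingAut F), orderOf σ = p ∧ α * x * α⁻¹ = ind 1 σ := by
  obtain ⟨g, σ, rfl⟩ := exists_ind_of_orderOf r hm hp hpr hx
  have hpow : (ind g σ) ^ p = 1 := hx ▸ pow_orderOf_eq_one _
  have hσp : σ ^ p = 1 := by
    obtain ⟨B, hB⟩ : ∃ B, (ind g σ) ^ p = ind B (σ ^ p) := by
      have : ∀ k : ℕ, ∃ B, (ind g σ) ^ k = ind B (σ ^ k) := by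
        intro k
        induction k with
        | zero => exact ⟨1, by rw [pow_zero, pow_zero, ind_one_one]⟩
        | succ k ih =>
          obtain ⟨B, hB⟩ := ih
          exact ⟨_, by rw [pow_succ, hB, ind_mul, pow_succ]⟩
      exact this p
    exact (eq_one_of_ind_eq_one hm (hB ▸ hpow)).1
  have hσ1 : σ ≠ 1 := fun h => hnot (isInnerDiagonal_iff.2 ⟨g, by rw [h]⟩)
  haveI : Fact p.Prime := ⟨hp⟩
  have hσ := orderOf_eq_prime hσp hσ1
  obtain ⟨B, hB⟩ := field_coset_conj hm hσ hp.pos g hpow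
  exact ⟨(ind B 1)⁻¹, σ, hσ, by rw [hB]; group⟩

include r in
/-- An automorphism fixing all rational transvections is a power of the field automorphism. -/
theorem mem_zpowers_of_fix (hm : 2 ≤ m) {σ : RingAut F} {p : ℕ} (hp : p.Prime) (hσ : orderOf σ = p)
    (a : MulAut PS)
    (ha : ∀ (v : V) (c : F), (∀ i, σ (v i) = v i) → σ c = c → a (pT v c) = pT v c) :
    a ∈ Subgroup.zpowers (ind (1 : ↥(Cfsg.GSp m F)) σ) := by
  classical
  have hsingle : ∀ b : Fin m ⊕ Fin m, ∀ i, σ ((Pi.single b 1 : V) i) = (Pi.single b 1 : V) i := by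
    intro b i; simp [Pi.single_apply, apply_ite σ]
  let i0 : Fin m := ⟨0, by omega⟩
  obtain ⟨g, τ, rfl⟩ := exists_ind_of_fix r hm a i0 (ha _ _ (hsingle _) (map_one σ)) rfl
  obtain ⟨k, hk⟩ := mem_gsp_iff.1 g.2
  have hpar : ∀ v : V, v ≠ 0 → (∀ i, σ (v i) = v i) → ∃ l : F, act g.1 τ v = l • v := by
    intro v hv hvf
    have h1 := ha v 1 hvf (map_one σ)
    rw [ind_pT_val g τ hk] at h1
    obtain ⟨l, hl⟩ := pT_par hm hv one_ne_zero h1.symm
    rcases eq_or_ne l 0 with rfl | hl0
    · exact absurd (by rw [hl, zero_smul]) hv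
    exact ⟨l⁻¹, by conv_rhs => rw [hl, inv_smul_smul₀ hl0]⟩
  have hτ01 : ∀ b, (fun i => τ ((Pi.single b 1 : V) i)) = Pi.single b 1 := fun b => funext fun i => by
    simp [Pi.single_apply, apply_ite τ]
  have hne : ∀ b, (Pi.single b 1 : V) ≠ 0 := fun b h => by simpa using congrFun h b
  choose l hl using fun b => hpar _ (hne b) (hsingle b)
  have hcol : ∀ b, g.1.1 *ᵥ (Pi.single b 1 : V) = l b • Pi.single b 1 := fun b => by
    rw [← hl b, act, hτ01]
  have hleq : ∀ b c, l b = l c := by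
    intro b c
    rcases eq_or_ne b c with rfl | hbc
    · rfl
    obtain ⟨t, ht⟩ := hpar (Pi.single b 1 + Pi.single c 1)
      (fun h => by simpa [hbc] using congrFun h b)
      (fun i => by rw [Pi.add_apply, map_add, hsingle, hsingle])
    have hs : (fun i => τ ((Pi.single b 1 + Pi.single c 1 : V) i)) = Pi.single b 1 + Pi.single c 1 :=
      funext fun i => by
        rw [Pi.add_apply, map_add, congrFun (hτ01 b) i, congrFun (hτ01 c) i]
    rw [act, hs, Matrix.mulVec_add, hcol, hcol] at ht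
    have e1 := congrFun ht b
    have e2 := congrFun ht c
    simp [hbc, hbc.symm] at e1 e2
    rw [e1, e2]
  let z : Fin m ⊕ Fin m := .inl i0
  have hl0 : l z ≠ 0 := fun h => by
    have h1 := congrArg (fun u => (g.1⁻¹).1 *ᵥ u) (hcol z)
    rw [h] at h1
    simp only [zero_smul, Matrix.mulVec_mulVec, ← Units.val_mul, inv_mul_cancel, Units.val_one,
      Matrix.one_mulVec, Matrix.mulVec_zero] at h1
    exact hne z h1
  have hg : g = gscal (Units.mk0 (l z) hl0) := by
    apply Subtype.ext; apply Units.ext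
    refine Matrix.ext_of_mulVec_single fun b => ?_
    rw [hcol, gscal_val, Matrix.smul_mulVec, Matrix.one_mulVec, Units.val_mk0, hleq b z]
  have hind : ind g τ = ind 1 τ := by rw [hg, ← mul_one (gscal _), ind_gscal_mul]
  rw [hind] at ha ⊢
  have hk1 : ∀ u v : V, sf (((1 : ↥(Cfsg.GSp m F)).1).1 *ᵥ u) (((1 : ↥(Cfsg.GSp m F)).1).1 *ᵥ v) =
      ((1 : Fˣ) : F) * sf u v := fun u v => by simp
  have hτfix : ∀ c, σ c = c → τ c = c := by
    intro c hc
    have h1 := ha _ c (hsingle z) hc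
    rw [ind_pT_val 1 τ hk1, act, hτ01] at h1
    simp only [OneMemClass.coe_one, Units.val_one, Matrix.one_mulVec, div_one] at h1
    obtain ⟨x, hx0, hxv, -⟩ := exists_orth_two hm (Pi.single z 1 : V) 0
    have he := pr_eq_fix (by omega) h1 hx0 (by rw [tv_mulVec, hxv]; simp)
      (by rw [tv_mulVec, hxv]; simp)
    obtain ⟨y, hy⟩ := exists_sf_eq_one (hne z)
    have h2 := congrArg (fun T : Matrix.symplecticGroup (Fin m) F => (T.1 *ᵥ y) z) he
    simpa [tv_mulVec, hy] using h2
  -- Galois theory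
  let K := fixedField σ
  haveI : Fintype K := Fintype.ofFinite _
  let toA : ∀ ρ : RingAut F, (∀ c, σ c = c → ρ c = c) → (F ≃ₐ[K] F) := fun ρ h =>
    AlgEquiv.ofRingEquiv (f := ρ) fun c => h c.1 c.2
  have hdim : Module.finrank K F = p := by
    have h1 : Fintype.card F = Fintype.card K ^ Module.finrank K F := Module.card_eq_pow_finrank
    have h2 := card_fixedField_pow σ
    rw [hσ, Nat.card_eq_fintype_card, h1] at h2
    exact (Nat.pow_right_injective Fintype.one_lt_card h2).symm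
  set s := toA σ fun _ h => h with hs
  have hspow : ∀ k : ℕ, ∀ y, (s ^ k) y = (σ ^ k) y := by
    intro k
    induction k with
    | zero => intro y; rfl
    | succ k ih => intro y; rw [pow_succ, pow_succ]; exact ih (σ y)
  haveI : Fintype (F ≃ₐ[K] F) := Fintype.ofFinite _
  have hsord : orderOf s = p := by
    haveI : Fact p.Prime := ⟨hp⟩
    refine orderOf_eq_prime (AlgEquiv.ext fun y => ?_) fun h => hp.one_lt.ne' ?_
    · rw [hspow, ← hσ, pow_orderOf_eq_one]; rfl
    · rw [← hσ, orderOf_eq_one_iff]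
      exact RingEquiv.ext fun y => by
        have := congrArg (fun e : F ≃ₐ[K] F => e y) h
        exact this
  have htop : Subgroup.zpowers s = ⊤ := by
    refine Subgroup.eq_top_of_le_card _ ?_
    rw [Nat.card_zpowers, hsord, ← hdim, Nat.card_eq_fintype_card]
    convert AlgEquiv.card_le (F := K) (K := F)
  obtain ⟨j, hj⟩ := mem_powers_iff_mem_zpowers.2 (htop ▸ Subgroup.mem_top (toA τ hτfix))
  have hτj : τ = σ ^ j := RingEquiv.ext fun y => by
    have h3 := congrArg (fun e : F ≃ₐ[K] F => e y) hj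
    simp only [hspow] at h3
    exact h3.symm
  rw [hτj, show ind (1 : ↥(Cfsg.GSp m F)) (σ ^ j) = (ind 1 σ) ^ j from map_pow fieldHom σ j]
  exact Subgroup.npow_mem_zpowers _ _

/-- Transvection images commute with nothing nontrivial: the centre is trivial. -/
theorem conj_injective (hm : 2 ≤ m) (hs : IsSimpleGroup PS) :
    Function.Injective (MulAut.conj : PS →* MulAut PS) := by
  rw [← MonoidHom.ker_eq_bot_iff]
  rcases hs.eq_bot_or_eq_top_of_normal (MulAut.conj : PS →* MulAut PS).ker inferInstance with h | h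
  · exact h
  exfalso
  let z : Fin m := ⟨0, by omega⟩
  have hm' : MulAut.conj (pT (lv z) (1 : F)) = 1 := by
    rw [← MonoidHom.mem_ker, h]; exact Subgroup.mem_top _
  have hc : Commute (pT (lv z) (1 : F)) (pT (rv z) (1 : F)) := by
    have := congrArg (fun e : MulAut PS => e (pT (rv z) (1 : F))) hm'
    simp only [MulAut.conj_apply, MulAut.one_apply, mul_inv_eq_iff_eq_mul] at this
    exact this
  have h1 := (pT_commute_iff hm (lv_ne_zero z) (rv_ne_zero z) one_ne_zero one_ne_zero).1 hc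
  rw [sf_rv] at h1
  simp at h1

theorem card_centralizer_eq (hm : 2 ≤ m) {σ : RingAut F} {p : ℕ} (hσ : orderOf σ = p) (hp : 0 < p) :
    Nat.card (Cfsg.inndiagPSp m F ⊓ Subgroup.centralizer {ind (1 : ↥(Cfsg.GSp m F)) σ} :
      Subgroup (MulAut PS)) = Nat.card (Matrix.symplecticGroup (Fin m) (fixedField σ)) := by
  haveI : Fintype (fixedField σ) := Fintype.ofFinite _
  obtain ⟨e⟩ := pgsp_equiv_centralizer hm hσ hp (fixedField σ) Nat.card_eq_fintype_card
  obtain ⟨e'⟩ := pgsp_equiv_centralizer (F := fixedField σ) hm (σ := 1) orderOf_one Nat.one_pos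
    (fixedField σ) (by
      rw [← Nat.card_eq_fintype_card]
      exact Nat.card_congr (Equiv.subtypeUnivEquiv fun x => rfl))
  rw [← Nat.card_congr e.toEquiv, Nat.card_congr e'.toEquiv,
    show ind (1 : ↥(Cfsg.GSp m (fixedField σ))) (1 : RingAut (fixedField σ)) = 1 from ind_one_one,
    ← card_indHom_range hm, ← inndiag_eq_range]
  refine Nat.card_congr (Equiv.setCongr ?_)
  ext x
  simp [Subgroup.mem_centralizer_iff]

theorem psp_small_normal_dvd {K : Type*} [Field K] [Fintype K] (hK : Fintype.card K = 2)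
    {p : ℕ} (hp : p = 3 ∨ p = 5) (N : Subgroup (Matrix.symplecticGroup (Fin 2) K)) [N.Normal]
    (hN : N ≠ ⊥) : p ∣ Nat.card N := by
  obtain ⟨e⟩ := CfsgLib.Classical.sp_four_two_equiv_perm hK
  have hM : (N.map e.toMonoidHom).Normal := Subgroup.Normal.map ‹_› _ e.surjective
  have hM0 : N.map e.toMonoidHom ≠ ⊥ := fun h => hN (by
    rwa [Subgroup.map_eq_bot_iff_of_injective _ e.injective] at h)
  have hA6 := alternatingGroup.isSimpleGroup (α := Fin 6) (by simp)
  have hcA : Nat.card (alternatingGroup (Fin 6)) = 360 := by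
    rw [nat_card_alternatingGroup, Nat.card_fin]; rfl
  rcases hA6.eq_bot_or_eq_top_of_normal ((N.map e.toMonoidHom).subgroupOf (alternatingGroup (Fin 6)))
    inferInstance with h | h
  · exfalso
    refine hM0 ?_
    rw [Subgroup.subgroupOf_eq_bot] at h
    set M := N.map e.toMonoidHom
    rw [eq_bot_iff]
    intro x hx
    have hcomm : ∀ y ∈ alternatingGroup (Fin 6), x * y = y * x := by
      intro y hy
      have h1 : x * y * x⁻¹ * y⁻¹ ∈ M ⊓ alternatingGroup (Fin 6) := by
        refine ⟨?_, ?_⟩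
        · simpa [mul_assoc] using mul_mem hx (hM.conj_mem _ (inv_mem hx) y)
        · rw [mul_assoc x y, mul_assoc]
          have h2 : x * y * x⁻¹ ∈ alternatingGroup (Fin 6) :=
            (inferInstance : (alternatingGroup (Fin 6)).Normal).conj_mem y hy x
          simpa [mul_assoc] using mul_mem h2 (inv_mem hy)
      rw [h.eq_bot, Subgroup.mem_bot] at h1
      rw [← _root_.mul_inv_eq_one, _root_.mul_inv_rev]
      simpa [mul_assoc] using h1
    by_contra hne
    rw [Subgroup.mem_bot] at hne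
    obtain ⟨i, hi⟩ : ∃ i, x i ≠ i := by
      by_contra hc; push Not at hc
      exact hne (Equiv.ext hc)
    obtain ⟨k, l, hk, hl⟩ : ∃ k l : Fin 6, (k ≠ i ∧ k ≠ x i) ∧ (l ≠ i ∧ l ≠ x i ∧ l ≠ k) := by
      revert hi; generalize x i = j; clear * -; revert i j; decide
    have h3 := hcomm (Equiv.swap i k * Equiv.swap i l) (by
      rw [Equiv.Perm.mem_alternatingGroup, map_mul, Equiv.Perm.sign_swap hk.1.symm,
        Equiv.Perm.sign_swap hl.1.symm]
      decide)
    have h4 := congrArg (fun e : Equiv.Perm (Fin 6) => e i) h3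
    simp only [Equiv.Perm.mul_apply, Equiv.swap_apply_left] at h4
    rw [Equiv.swap_apply_of_ne_of_ne hl.1 hl.2.2, Equiv.swap_apply_of_ne_of_ne hi (Ne.symm hl.2.1),
      Equiv.swap_apply_of_ne_of_ne hi (Ne.symm hk.2)] at h4
    exact hl.1 (x.injective h4)
  · have h1 : alternatingGroup (Fin 6) ≤ N.map e.toMonoidHom := Subgroup.subgroupOf_eq_top.1 h
    have h2 := Subgroup.card_dvd_of_le h1
    rw [hcA, Subgroup.card_map_of_injective e.injective] at h2
    exact (by rcases hp with rfl | rfl <;> norm_num : p ∣ 360).trans h2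

theorem psp_normal_dichotomy (hm : 2 ≤ m) {K : Type*} [Field K] [Fintype K] [CharP K r]
    {p : ℕ} (hp : p.Prime) (hpr : p ≠ r) (hd : p ∣ Nat.card (Cfsg.PSp m K))
    (N : Subgroup (Cfsg.PSp m K)) [N.Normal] : N = ⊥ ∨ p ∣ Nat.card N := by
  by_cases h : m = 2 ∧ Fintype.card K = 2
  · obtain ⟨rfl, hK⟩ := h
    have hinj : Function.Injective (pr : Matrix.symplecticGroup (Fin 2) K →* Cfsg.PSp 2 K) := by
      haveI : Finite (Matrix.symplecticGroup (Fin 2) K) := Finite.of_injective (fun A => A.1) Subtype.val_injective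
      refine ((Nat.bijective_iff_surjective_and_card _).2 ⟨QuotientGroup.mk'_surjective _, ?_⟩).1
      rw [card_sp_eq_gcd_mul (by omega : 1 ≤ 2), hK]; simp
    by_cases hN : N = ⊥
    · exact Or.inl hN
    right
    have hr2 : r = 2 := by
      obtain ⟨f, hr', hf⟩ := FiniteField.card K r
      rw [hK] at hf
      exact (Nat.prime_dvd_prime_iff_eq hr' Nat.prime_two).1 (hf.symm ▸ dvd_pow_self r f.2.ne')
    have hpd : p ∣ Nat.card (Matrix.symplecticGroup (Fin 2) K) :=
      hd.trans ⟨_, (card_sp_eq_gcd_mul (by omega : 1 ≤ 2)).trans (mul_comm _ _)⟩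
    rw [CfsgLib.Classical.card_symplectic, hK] at hpd
    have hpd' : p ∣ 2 ^ 4 * (3 ^ 2 * 5) := hpd
    have hp35 : p = 3 ∨ p = 5 := by
      have h45 : p ∣ 3 ^ 2 * 5 := (Nat.Coprime.dvd_of_dvd_mul_left
        (Nat.Coprime.pow_right _ ((Nat.coprime_primes hp Nat.prime_two).2 (hr2 ▸ hpr))) hpd')
      rcases hp.dvd_mul.1 h45 with h | h
      · exact Or.inl ((Nat.prime_dvd_prime_iff_eq hp Nat.prime_three).1 (hp.dvd_of_dvd_pow h))
      · exact Or.inr ((Nat.prime_dvd_prime_iff_eq hp Nat.prime_five).1 h)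
    haveI : (N.comap (pr : Matrix.symplecticGroup (Fin 2) K →* Cfsg.PSp 2 K)).Normal := Subgroup.Normal.comap ‹_› _
    refine (psp_small_normal_dvd hK hp35 (N.comap pr) fun h0 => hN ?_).trans ?_
    · rw [← Subgroup.map_comap_eq_self_of_surjective (QuotientGroup.mk'_surjective _) N]
      exact (Subgroup.map_eq_bot_iff_of_injective _ hinj).2 h0
    · refine dvd_of_eq ?_
      rw [← Subgroup.card_map_of_injective hinj,
        Subgroup.map_comap_eq_self_of_surjective (QuotientGroup.mk'_surjective _)]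
  · haveI := CfsgLib.Classical.psp_isSimple (F := K) hm (fun h2 => by
      have := Fintype.one_lt_card (α := K)
      by_contra h3; exact h ⟨h2, by omega⟩)
    rcases IsSimpleGroup.eq_bot_or_eq_top_of_normal N ‹_› with h0 | h0
    · exact Or.inl h0
    · right; rw [h0, Subgroup.card_top]; exact hd

include r in
/-- The `p'`-core of the centraliser of a field automorphism. -/
theorem pPrimeCore_field_iff (hm : 2 ≤ m) (hs : IsSimpleGroup PS) {σ : RingAut F} {p : ℕ}
    [Fact p.Prime] (hpr : p ≠ r) (hσ : orderOf σ = p) (A : Subgroup (MulAut PS))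
    (hinn : ∀ k : PS, MulAut.conj k ∈ A) :
    Cfsg.pPrimeCore p ↥(A ⊓ Subgroup.centralizer {ind (1 : ↥(Cfsg.GSp m F)) σ}) ≠ ⊥ ↔
      Nat.Coprime p (Nat.card ↥(MonoidHom.eqLocus (ind (1 : ↥(Cfsg.GSp m F)) σ).toMonoidHom
        (MonoidHom.id PS))) := by
  classical
  have hp := (Fact.out : p.Prime)
  haveI : Finite PS := Quotient.finite _
  haveI : Finite (MulAut PS) := Finite.of_injective (fun e => (e : PS → PS)) DFunLike.coe_injective
  set φ := ind (1 : ↥(Cfsg.GSp m F)) σ with hφ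
  set C := A ⊓ Subgroup.centralizer {φ} with hC
  set H := MonoidHom.eqLocus φ.toMonoidHom (MonoidHom.id PS) with hH
  have hmemH : ∀ k, k ∈ H ↔ φ k = k := fun k => Iff.rfl
  have hconjφ : ∀ k : PS, φ * MulAut.conj k = MulAut.conj (φ k) * φ := fun k =>
    MulEquiv.ext fun y => by simp [MulAut.mul_apply]
  have hHC : ∀ k ∈ H, MulAut.conj k ∈ C := fun k hk => ⟨hinn k, fun z hz => by
    rw [Set.mem_singleton_iff.1 hz, hconjφ, (hmemH k).1 hk]⟩
  have hinj := conj_injective hm hs
  constructor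
  swap
  · intro hco hbot
    let f : ↥H →* ↥C :=
      { toFun := fun k => ⟨MulAut.conj k.1, hHC k.1 k.2⟩
        map_one' := Subtype.ext (map_one _)
        map_mul' := fun a b => Subtype.ext (map_mul MulAut.conj a.1 b.1) }
    haveI : f.range.Normal := ⟨by
      rintro _ ⟨k, rfl⟩ c
      have hc : (c : MulAut PS) * φ = φ * c := (c.2.2 φ rfl).symm
      have hk' : (c : MulAut PS) k.1 ∈ H := by
        rw [hmemH, ← MulAut.mul_apply, ← hc, MulAut.mul_apply, (hmemH _).1 k.2]
      refine ⟨⟨_, hk'⟩, Subtype.ext ?_⟩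
      show MulAut.conj ((c : MulAut PS) k.1) = (c : MulAut PS) * MulAut.conj k.1 * (c : MulAut PS)⁻¹
      rw [eq_mul_inv_iff_mul_eq]
      exact MulEquiv.ext fun y => by simp [MulAut.mul_apply]⟩
    have h1 := CfsgLib.Coprime.le_pPrimeCore (p := p) (N := f.range)
      (Nat.Coprime.coprime_dvd_left (Subgroup.card_range_dvd f) hco.symm)
    rw [hbot, le_bot_iff, MonoidHom.range_eq_bot_iff] at h1
    let z : Fin m := ⟨0, by omega⟩
    have hv : pT (lv z) (1 : F) ∈ H := by
      rw [hmemH, hφ, ind_pT_val 1 σ (k := 1) (fun u v => by simp), act]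
      simp [lv, Pi.single_apply, apply_ite σ, funext_iff]
      congr 2
      funext i
      simp [Pi.single_apply, apply_ite σ]
    have h2 := congrArg Subtype.val (DFunLike.congr_fun h1 ⟨_, hv⟩)
    exact pT_ne_one hm (lv_ne_zero z) one_ne_zero (hinj (h2.trans (map_one _).symm))
  intro hX
  by_contra hco
  rw [hp.coprime_iff_not_dvd, not_not] at hco
  haveI : Fintype (fixedField σ) := Fintype.ofFinite _
  let K := fixedField σ
  have hpσ : orderOf φ = p := (orderOf_fieldHom hm σ).trans hσ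
  -- the group `M` of rational elements
  let ι : Matrix.symplecticGroup (Fin m) K →* PS :=
    (pr : Matrix.symplecticGroup (Fin m) F →* PS).comp
      { toFun := fun X => ⟨X.1.map K.subtype, SymplecticGroup.map_mem X.2 K.subtype⟩
        map_one' := Subtype.ext (Matrix.map_one _ (map_zero _) (map_one _))
        map_mul' := fun X Y => Subtype.ext (Matrix.map_mul (f := K.subtype)) }
  have hιrange : ∀ X, ι X ∈ H := by
    intro X
    rw [hmemH, hφ]
    show ind 1 σ (pr _) = pr _
    rw [ind_pr]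
    congr 1
    apply Subtype.ext
    rw [spConj_val, spField_val]
    simp only [OneMemClass.coe_one, Units.val_one, one_mul, inv_one, mul_one]
    ext a b
    exact (X.1 a b).2
  have hιT : ∀ (v : V) (c : F), (∀ i, σ (v i) = v i) → σ c = c → pT v c ∈ ι.range := by
    intro v c hv hc
    refine ⟨tv (fun i => (⟨v i, hv i⟩ : K)) ⟨c, hc⟩, congrArg pr (sp_ext_vec fun x => ?_)⟩
    refine congrFun (congrArg (fun M : Matrix (Fin m ⊕ Fin m) (Fin m ⊕ Fin m) F => fun y => M *ᵥ y) ?_) x
    refine Matrix.ext_of_mulVec_single fun b => ?_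
    have e1 := map_mulVec_ringHom (m := m) K.subtype (tv (fun i => (⟨v i, hv i⟩ : K)) ⟨c, hc⟩).1
      (Pi.single b 1)
    have eb : (fun i => K.subtype ((Pi.single b (1 : K) : Fin m ⊕ Fin m → K) i)) = (Pi.single b 1 : V) :=
      funext fun i => by simp [Pi.single_apply, apply_ite K.subtype]
    rw [eb] at e1
    show (Matrix.map _ K.subtype) *ᵥ _ = _
    rw [e1, tv_mulVec, tv_mulVec, ← eb]
    funext i
    simp only [Pi.add_apply, Pi.smul_apply, smul_eq_mul, map_add, map_mul, ← sf_ringHom]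
    rfl
  -- elements of `Aut` commuting with `φ` permute rational transvections
  have hperm : ∀ (a : MulAut PS), a * φ = φ * a → (∃ g τ, a = ind g τ) → ∀ (v : V) (c : F),
      v ≠ 0 → c ≠ 0 → (∀ i, σ (v i) = v i) → σ c = c → a (pT v c) ∈ ι.range := by
    rintro a hcm ⟨g, τ, rfl⟩ v c hv hc hvf hcf
    obtain ⟨d, hd, he⟩ := ind_pT g τ v c
    set w := act g.1 τ v
    have hw : w ≠ 0 := act_ne_zero _ _ hv
    have hfix : φ (pT w d) = pT w d := by
      rw [← he, ← MulAut.mul_apply, ← hcm, MulAut.mul_apply, hφ, ind_pT_val 1 σ (k := 1) (fun u v => by simp)]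
      congr 1
      simp only [act, OneMemClass.coe_one, Units.val_one, Matrix.one_mulVec, div_one, hcf]
      rw [funext hvf]
    obtain ⟨i, hi⟩ := Function.ne_iff.1 hw
    simp only [Pi.zero_apply] at hi
    set w0 : V := (w i)⁻¹ • w
    have hw0 : w0 ≠ 0 := smul_ne_zero (inv_ne_zero hi) hw
    have hd0 : w i * w i * d ≠ 0 := mul_ne_zero (mul_ne_zero hi hi) (hd hc)
    have hw0e : pT w d = pT w0 (w i * w i * d) := by
      show pr _ = pr _
      rw [← tv_smul]
      simp [w0, smul_inv_smul₀ hi]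
    rw [hw0e, hφ, ind_pT_val 1 σ (k := 1) (fun u v => by simp)] at hfix
    simp only [act, OneMemClass.coe_one, Units.val_one, Matrix.one_mulVec, div_one] at hfix
    obtain ⟨l, hl⟩ := pT_par hm hw0 hd0 hfix.symm
    have hl1 : l = 1 := by
      have := congrFun hl i
      simp [w0, hi] at this
      exact this.symm
    rw [hl1, one_smul] at hl
    have hw0f : ∀ j, σ (w0 j) = w0 j := fun j => (congrFun hl j).symm
    rw [← hl] at hfix
    have hdf : σ (w i * w i * d) = w i * w i * d := by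
      obtain ⟨x, hx0, hxv, -⟩ := exists_orth_two hm w0 0
      have he' := pr_eq_fix (by omega) hfix hx0 (by rw [tv_mulVec, hxv]; simp)
        (by rw [tv_mulVec, hxv]; simp)
      obtain ⟨y, hy⟩ := exists_sf_eq_one hw0
      have h2 := congrArg (fun T : Matrix.symplecticGroup (Fin m) F => (T.1 *ᵥ y) i) he'
      simpa [tv_mulVec, hy, w0, hi] using h2
    rw [he, hw0e]
    exact hιT _ _ hw0f hdf
  set X := Cfsg.pPrimeCore p ↥C with hXdef
  haveI : X.Normal := by
    haveI := CfsgLib.Coprime.pPrimeCore_characteristic (G := ↥C) p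
    infer_instance
  have hXp : ¬ p ∣ Nat.card X := CfsgLib.Coprime.pPrimeCore_not_dvd hp
  -- the inner part of `X`
  let Y : Subgroup ↥H :=
    { carrier := {k | ⟨MulAut.conj k.1, hHC k.1 k.2⟩ ∈ X}
      one_mem' := by
        show (⟨MulAut.conj (1 : PS), _⟩ : ↥C) ∈ X
        convert X.one_mem using 1
        exact Subtype.ext (map_one _)
      mul_mem' := fun {a b} ha hb => by
        show (⟨MulAut.conj (a.1 * b.1), _⟩ : ↥C) ∈ X
        convert X.mul_mem ha hb using 1
        exact Subtype.ext (map_mul _ _ _)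
      inv_mem' := fun {a} ha => by
        show (⟨MulAut.conj (a.1⁻¹), _⟩ : ↥C) ∈ X
        convert X.inv_mem ha using 1
        exact Subtype.ext (map_inv _ _) }
  haveI hYn : Y.Normal := ⟨fun y hy h => by
    show (⟨MulAut.conj (h.1 * y.1 * h.1⁻¹), _⟩ : ↥C) ∈ X
    convert (inferInstance : X.Normal).conj_mem _ hy ⟨MulAut.conj h.1, hHC h.1 h.2⟩ using 1
    exact Subtype.ext (by simp)⟩
  have hYp : ¬ p ∣ Nat.card Y := fun h => hXp (h.trans (Subgroup.card_dvd_of_injective
    ({ toFun := fun y => ⟨⟨MulAut.conj y.1.1, hHC _ y.1.2⟩, y.2⟩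
       map_one' := Subtype.ext (Subtype.ext (map_one _))
       map_mul' := fun a b => Subtype.ext (Subtype.ext (map_mul _ _ _)) } : ↥Y →* ↥X)
    fun a b h => Subtype.ext (Subtype.ext (hinj (congrArg (fun z : ↥X => z.1.1) h)))))
  haveI : CharP K r := (Subfield.subtype K).charP (Subfield.subtype K).injective r
  let ι' : Matrix.symplecticGroup (Fin m) K →* ↥H := ι.codRestrict H hιrange
  have hker : ι.ker = Subgroup.center (Matrix.symplecticGroup (Fin m) K) := by
    ext c
    constructor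
    · intro hc
      refine Subgroup.mem_center_iff.2 fun B => Subtype.ext (Matrix.map_injective K.subtype.injective ?_)
      show (B.1 * c.1).map K.subtype = (c.1 * B.1).map K.subtype
      rw [Matrix.map_mul, Matrix.map_mul]
      rcases (pr_eq_iff (by omega : 1 ≤ m)).1 ((MonoidHom.mem_ker.1 hc).trans (map_one pr).symm) with h | h
      · have h' : c.1.map K.subtype = 1 := h.symm
        rw [h']; simp
      · have h' : c.1.map K.subtype = -1 := neg_eq_iff_eq_neg.1 h.symm
        rw [h']; simp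
    · intro hc
      have hcs := center_scalar (A := c) (by omega : 1 ≤ m)
        (fun v _ => (Subgroup.mem_center_iff.1 hc (tv v 1)).symm)
      refine (QuotientGroup.eq_one_iff _).2 (Subgroup.mem_center_iff.2 fun B => Subtype.ext ?_)
      rw [sp_mul_val, sp_mul_val]
      show B.1 * c.1.map K.subtype = c.1.map K.subtype * B.1
      rcases hcs with h | h <;> rw [h] <;> simp [Matrix.map_neg]
  have hker' : ι'.ker = Subgroup.center (Matrix.symplecticGroup (Fin m) K) := by
    rw [← hker]; exact MonoidHom.ker_codRestrict ι H hιrange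
  let κ : Cfsg.PSp m K →* ↥H := QuotientGroup.lift _ ι' (hker' ▸ le_rfl)
  have hκinj : Function.Injective κ := by
    rw [← MonoidHom.ker_eq_bot_iff, eq_bot_iff]
    intro x hx
    obtain ⟨Z, rfl⟩ := QuotientGroup.mk'_surjective _ x
    rw [Subgroup.mem_bot]
    exact (QuotientGroup.eq_one_iff Z).2 (hker' ▸ (show Z ∈ ι'.ker from hx))
  have hdK : p ∣ Nat.card (Cfsg.PSp m K) := by
    have hsp : p ∣ Nat.card (Matrix.symplecticGroup (Fin m) K) := by
      refine hco.trans ?_
      rw [← card_centralizer_eq hm hσ hp.pos]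
      have hmem : ∀ k : ↥H, MulAut.conj (k : PS) ∈ (Cfsg.inndiagPSp m F ⊓ Subgroup.centralizer {φ} :
          Subgroup (MulAut PS)) := by
        intro k
        refine ⟨?_, (hHC k.1 k.2).2⟩
        rw [inndiag_eq_range]
        have : MulAut.conj (k.1 : PS) ∈ Cfsg.Inn PS := ⟨k.1, rfl⟩
        rw [inn_eq_map (by omega : 1 ≤ m)] at this
        exact Subgroup.map_le_range _ _ this
      exact Subgroup.card_dvd_of_injective
        (((MulAut.conj : PS →* MulAut PS).comp H.subtype).codRestrict _ hmem)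
        fun a b h => Subtype.ext (hinj (congrArg Subtype.val h))
    rw [card_sp_eq_gcd_mul (by omega : 1 ≤ m)] at hsp
    rcases hp.dvd_mul.1 hsp with h | h
    swap
    · exact h
    have hp2 : p = 2 := (Nat.prime_dvd_prime_iff_eq hp Nat.prime_two).1 (h.trans (Nat.gcd_dvd_left _ _))
    subst hp2
    have h8 : 4 ∣ Nat.card (Matrix.symplecticGroup (Fin m) K) := by
      rw [CfsgLib.Classical.card_symplectic]
      refine dvd_mul_of_dvd_right ((?_ : 4 ∣ Fintype.card K ^ (2 * (0 + 1)) - 1).trans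
        (Finset.dvd_prod_of_mem (fun i => Fintype.card K ^ (2 * (i + 1)) - 1)
          (Finset.mem_range.2 (by omega : 0 < m)))) _
      obtain ⟨f, hr', hf⟩ := FiniteField.card K r
      have hodd : Odd (Fintype.card K) := by
        rw [hf]; exact ((Fact.out : r.Prime).odd_of_ne_two (fun h => hpr h.symm)).pow
      obtain ⟨k, hk⟩ := hodd
      rw [hk]
      exact ⟨k * k + k, by ring_nf; omega⟩
    rw [card_sp_eq_gcd_mul (by omega : 1 ≤ m)] at h8
    rcases (Nat.dvd_prime Nat.prime_two).1 (Nat.gcd_dvd_left 2 (Fintype.card K - 1)) with e | e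
    · rw [e, one_mul] at h8; exact (by norm_num : 2 ∣ 4).trans h8
    · rw [e] at h8; obtain ⟨t, ht⟩ := h8; exact ⟨t, by omega⟩
  -- `Y` meets the rational group trivially
  have hYι : ∀ X0, ι' X0 ∈ Y → ι X0 = 1 := by
    intro X0 hX0
    haveI : (Y.comap κ).Normal := hYn.comap _
    rcases psp_normal_dichotomy r hm hp hpr hdK (Y.comap κ) with h | h
    · have h1 : (pr X0 : Cfsg.PSp m K) ∈ Y.comap κ := hX0
      rw [h, Subgroup.mem_bot] at h1
      rw [← MonoidHom.mem_ker, hker]
      exact (QuotientGroup.eq_one_iff X0).1 h1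
    · exact absurd (h.trans (Subgroup.card_dvd_of_injective ((κ.comp (Y.comap κ).subtype).codRestrict Y
        fun z => z.2) fun a b hab => Subtype.ext (hκinj (congrArg Subtype.val hab)))) hYp
  have hinner : ∀ y : ↥H, y ∈ Y → y = 1 := by
    intro y hy
    have hfix : ∀ (v : V) (c : F), (∀ i, σ (v i) = v i) → σ c = c →
        MulAut.conj (y : PS) (pT v c) = pT v c := by
      intro v c hv hc
      rcases eq_or_ne v 0 with rfl | hv0
      · rw [pT, show (0 : V) = (0 : F) • (0 : V) from (zero_smul F _).symm, tv_smul]; simp [tv_zero]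
      rcases eq_or_ne c 0 with rfl | hc0
      · simp [pT, tv_zero]
      have hyind : ∃ g τ, MulAut.conj (y : PS) = ind g τ := by
        obtain ⟨Y0, hY0⟩ := QuotientGroup.mk'_surjective _ (y : PS)
        refine ⟨ofSp Y0, 1, ?_⟩
        rw [ind_ofSp]; exact congrArg MulAut.conj hY0.symm
      have hycm : MulAut.conj (y : PS) * φ = φ * MulAut.conj (y : PS) := by
        rw [hconjφ, (hmemH _).1 y.2]
      obtain ⟨X1, hX1⟩ := hperm _ hycm hyind v c hv0 hc0 hv hc
      obtain ⟨X2, hX2⟩ := hιT v c hv hc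
      have h1 : ι' (X1 * X2⁻¹) ∈ Y := by
        have e : ι' (X1 * X2⁻¹) = y * ι' X2 * y⁻¹ * (ι' X2)⁻¹ := by
          rw [map_mul, map_inv]
          congr 1
          apply Subtype.ext
          show ι X1 = (y : PS) * ι X2 * (y : PS)⁻¹
          rw [hX1, hX2, MulAut.conj_apply]
        rw [e, show y * ι' X2 * y⁻¹ * (ι' X2)⁻¹ = y * (ι' X2 * y⁻¹ * (ι' X2)⁻¹) by group]
        exact Y.mul_mem hy (hYn.conj_mem _ (Y.inv_mem hy) _)
      have h2 := hYι _ h1
      rw [map_mul, map_inv, mul_inv_eq_one] at h2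
      rw [← hX1, h2, hX2]
    obtain ⟨j, hj⟩ := mem_powers_iff_mem_zpowers.2 (mem_zpowers_of_fix r hm hp hσ _ hfix)
    obtain ⟨Y0, hY0⟩ := QuotientGroup.mk'_surjective _ (y : PS)
    have e1 : ind (ofSp Y0) 1 = ind 1 (σ ^ j) := by
      rw [ind_ofSp, show ind (1 : ↥(Cfsg.GSp m F)) (σ ^ j) = (ind 1 σ) ^ j from map_pow fieldHom σ j]
      exact (congrArg MulAut.conj hY0).trans hj.symm
    have e2 : ind (ofSp Y0)⁻¹ (σ ^ j) = 1 := by
      rw [← ind_mul_fieldHom, show ind (1 : ↥(Cfsg.GSp m F)) (σ ^ j) = ind (ofSp Y0) 1 from e1.symm,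
        ← indHom_apply, ← indHom_apply, ← map_mul, inv_mul_cancel, map_one]
    have e3 := (eq_one_of_ind_eq_one hm e2).1
    refine Subtype.ext (hinj ?_)
    rw [OneMemClass.coe_one, map_one, ← hj]
    show (ind (1 : ↥(Cfsg.GSp m F)) σ) ^ j = 1
    rw [show (ind (1 : ↥(Cfsg.GSp m F)) σ) ^ j = ind 1 (σ ^ j) from (map_pow fieldHom σ j).symm, e3,
      ind_one_one]
  -- now all of `X` is trivial
  refine hX ((Subgroup.eq_bot_iff_forall _).2 fun a ha => ?_)
  have hfix : ∀ (v : V) (c : F), (∀ i, σ (v i) = v i) → σ c = c → (a : MulAut PS) (pT v c) = pT v c := by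
    intro v c hv hc
    obtain ⟨X2, hX2⟩ := hιT v c hv hc
    have hk : pT v c ∈ H := hX2 ▸ hιrange X2
    have hak : (a : MulAut PS) (pT v c) * (pT v c)⁻¹ ∈ H := by
      refine mul_mem ?_ (inv_mem hk)
      have hc' : (a : MulAut PS) * φ = φ * a := (a.2.2 φ rfl).symm
      rw [hmemH, ← MulAut.mul_apply, ← hc', MulAut.mul_apply, (hmemH _).1 hk]
    have h1 : (⟨_, hak⟩ : ↥H) ∈ Y := by
      show (⟨MulAut.conj ((a : MulAut PS) (pT v c) * (pT v c)⁻¹), _⟩ : ↥C) ∈ X
      convert X.mul_mem ha ((inferInstance : X.Normal).conj_mem _ (X.inv_mem ha)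
        ⟨MulAut.conj (pT v c), hHC _ hk⟩) using 1
      refine Subtype.ext (MulEquiv.ext fun w => ?_)
      simp [MulAut.mul_apply, map_mul, map_inv, MulAut.inv_def, mul_assoc]
    have h2 := congrArg Subtype.val (hinner _ h1)
    rwa [OneMemClass.coe_one, mul_inv_eq_one] at h2
  have hmem := mem_zpowers_of_fix r hm hp hσ (a : MulAut PS) hfix
  rw [← hφ] at hmem
  have h1 : orderOf a ∣ p := by
    rw [← Subgroup.orderOf_coe, ← hpσ]
    exact orderOf_dvd_of_mem_zpowers hmem
  have h2 : orderOf a ∣ Nat.card X := by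
    rw [← Subgroup.orderOf_mk a ha]; exact orderOf_dvd_natCard _
  rw [← orderOf_eq_one_iff]
  exact Nat.eq_one_of_dvd_coprimes (hp.coprime_iff_not_dvd.2 hXp) h1 h2

end CfsgLib.Sp
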